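import Cfsg.Agent.SB.Exc.Card
import Cfsg.Agent.Cam.Ex.Chi_m3
import Cfsg.Agent.DS.Nt.Base
import Cfsg.Agent.E8A.Fix.BorGen
import Cfsg.Agent.ChevalleyStructure.JacAll
import Cfsg.Agent.Lib.ListFast
import Mathlib
import Cfsg.Agent.H931.KC.Alcove
import Cfsg.Agent.N2.Tool
import Cfsg.Agent.H316.U6Norm_m3
import Cfsg.Agent.DS.Nt.Defs_m3
import Cfsg.Agent.SB.Low.TabD1_m3
import Cfsg.Prelude.Def_Quasithin
import Cfsg.Prelude.Def_Spor_ON
import Cfsg.Agent.FP3.Aff.Scott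
import Cfsg.Agent.H605.MX.Orb
import Cfsg.Agent.DL.Ex.Fin_m3
import Cfsg.Agent.H164.HallGen
import Cfsg.Agent.FastGrp
import Cfsg.Agent.Prune
set_option linter.all false

section
prune_inst 0x7ffdbcf8bbb825dfdfff7e7faed8dffc19909fffa6dff943ffe063ff1b9f03000bc5fbaf0de090fe0e56e21410b87813fb7eeeffea6bdc7ffffd5ff41ffbee1fe5f6b500519498340f380ff703f0778a6f3fffffffffffffffffffffffffffaeffbfffffffff

-- part: N2/Ex/K/Defs
section
set_option linter.all false

/-!
# S3519, exceptional groups, the box (K): fixed vectors on the adjoint module (interface, helper70)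

`Y = YY D p`.  `Γ` is a group of automorphisms of `Y` (the lifts of `H`), `σ ∈ Γ` the Steinberg endomorphism (`KF`),
`R ≤ Y ^ σ` a finite `Γ`-invariant group (the image of `E(A)`).  See `notes/N2/kbox.md`.

* `PL μ` : the parabolic subgroup of a real cocharacter; `Irr R` : `R` lies in no proper parabolic subgroup;
* `Frm φ y ψ` : `conj y * φ` permutes the root groups, `ψ` is its transpose on the root lattice;
* `HasP` (invariant `p`-subgroup of the finite group), `HasT` (invariant toral group), `HasM` (invariant subgroup of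
  maximal rank);
* `Sit σ Γ R` : the standing hypotheses;
* `PRep` : polynomial representations with weights in the root lattice.
-/

set_option autoImplicit false
set_option linter.unusedSectionVars false

namespace Cfsg.Agent.N2.Ex.K

open CoxeterSystem Cfsg Cfsg.Lie Cfsg.Lie.ChevalleyDatum
open Cfsg.Agent.ChevalleyStructure Cfsg.Agent.ChevalleyStructure.Elts Cfsg.Agent.ChevalleyStructure.CoxeterGeom
  Cfsg.Agent.ChevalleyStructure.CoxeterGeomTypes
open Cfsg.Agent.Tits.Roots Cfsg.Agent.Tits.Core Cfsg.Agent.Nodes Cfsg.Agent.Nodes.Reps Cfsg.Agent.Nodes.BNOf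
  Cfsg.Agent.Nodes.RGDChev Cfsg.Agent.Nodes.Bruhat
open Cfsg.Agent.KFacts.RgdField Cfsg.Agent.KFacts.RgdChevCoord
open Cfsg.Agent.BpExc Cfsg.Agent.BpExc.TorCent Cfsg.Agent.BpExc.TorChev Cfsg.Agent.BpExc.Tow
  Cfsg.Agent.BpExc.TowChev Cfsg.Agent.BpExc.Fr Cfsg.Agent.BpExc.LangFr
open Cfsg.Agent.H469.Exc Cfsg.Agent.H129.TorusChar Cfsg.Agent.DS.Ex Cfsg.Agent.DS.Nt Cfsg.Agent.DS.Ex.Tor
  Cfsg.Agent.SB.Exc

section Defs

variable {D : ChevalleyDatum} {l : ℕ} {M : CoxeterMatrix (Fin l)} (hp : IsType D l M) (p : ℕ) [Fact p.Prime]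

/-- the parabolic subgroup of a real cocharacter -/
noncomputable def PL (μ : (Fin l → ℤ) →+ ℝ) : Subgroup (YY D p) := DD D p {a | RT hp a ∧ 0 ≤ μ a}

/-- `R` lies in no proper parabolic subgroup -/
def Irr (R : Subgroup (YY D p)) : Prop :=
  ∀ (g : YY D p) (μ : (Fin l → ℤ) →+ ℝ), (∀ r ∈ R, g⁻¹ * r * g ∈ PL hp p μ) → μ = 0

/-- `x ↦ y * φ x * y⁻¹` normalises the torus and permutes the root groups; `ψ` is its transpose -/
structure Frm (φ : MulAut (YY D p)) (y : YY D p) (ψ : (Fin l → ℤ) →+ (Fin l → ℤ)) : Prop where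
  tor : ∀ t, y * φ t * y⁻¹ ∈ TT D (KK p) ↔ t ∈ TT D (KK p)
  chr : ∀ t ∈ TT D (KK p), ∀ x, cX hp (y * φ t * y⁻¹) x = cX hp t (ψ x)
  root : ∃ g : (Fin l → ℤ) → (Fin l → ℤ), Set.BijOn g {a | RT hp a} {a | RT hp a} ∧ ∀ a, RT hp a →
    (∃ c : ℤ, 0 < c ∧ ψ (g a) = c • a) ∧ ∀ x, y * φ x * y⁻¹ ∈ XX D l (KK p) (g a) ↔ x ∈ XX D l (KK p) a

/-- the Steinberg endomorphism `σ` and the group `Γ` of lifts -/
structure KF (σ : MulAut (YY D p)) (Γ : Subgroup (MulAut (YY D p))) : Prop where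
  mem : σ ∈ Γ
  comm : ∀ φ ∈ Γ, φ * σ = σ * φ
  amb : DL.Amb p (D.group (KK p)).subtype σ
  sem : ∃ y g ex Mx, Sem hp p (MulAut.conj y * σ) g ex Mx
  frmσ : ∃ y ψ, Frm hp p σ y ψ
  frm : ∀ φ ∈ Γ, ∃ (m : ℕ) (y : YY D p) (ψ : (Fin l → ℤ) →+ (Fin l → ℤ)), Frm hp p (φ * σ ^ m) y ψ

variable {p} in
/-- `A` is invariant under `Γ` -/
def Iv (Γ : Subgroup (MulAut (YY D p))) (A : Subgroup (YY D p)) : Prop := ∀ φ ∈ Γ, ∀ a ∈ A, φ a ∈ A

/-- all lifts are semilinear on the adjoint module (always, except for `F₄`, `p = 2`) -/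
def Ev (σ : MulAut (YY D p)) (Γ : Subgroup (MulAut (YY D p))) : Prop :=
  ∀ φ ∈ Γ, ∃ m n : ℕ, IsFrob p n (φ * σ ^ m)

/-- an invariant `p`-subgroup of the finite group -/
def HasP (σ : MulAut (YY D p)) (Γ : Subgroup (MulAut (YY D p))) : Prop :=
  ∃ Q : Subgroup (YY D p), Q ≠ ⊥ ∧ IsPGroup p Q ∧ (∀ u ∈ Q, σ u = u) ∧ Iv Γ Q

/-- an invariant finite toral subgroup -/
def HasT (Γ : Subgroup (MulAut (YY D p))) : Prop :=
  ∃ A : Subgroup (YY D p), A ≠ ⊥ ∧ Finite A ∧ Toral p A ∧ Iv Γ A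

/-- an invariant proper subgroup of maximal rank -/
def HasM (Γ : Subgroup (MulAut (YY D p))) : Prop :=
  ∃ (x : YY D p) (S : Set (Fin l → ℤ)), CS hp S ∧ DD D p S ≠ ⊤ ∧
    ∀ φ ∈ Γ, ∀ y ∈ DD D p S, x⁻¹ * φ (x * y * x⁻¹) * x ∈ DD D p S

/-- for some prime `r ≠ p` no element of order `r` centralises `R` -/
def NoC (R : Subgroup (YY D p)) : Prop :=
  ∃ r : ℕ, r.Prime ∧ r ≠ p ∧ ∀ c : YY D p, (∀ x ∈ R, c * x = x * c) → c ^ r = 1 → c = 1

/-- **The standing hypotheses.** -/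
structure Sit (σ : MulAut (YY D p)) (Γ : Subgroup (MulAut (YY D p))) (R : Subgroup (YY D p)) : Prop where
  kf : KF hp p σ Γ
  fin : Finite R
  inv : Iv Γ R
  fix : ∀ x ∈ R, σ x = x
  cen : ∀ c : YY D p, σ c = c → (∀ x ∈ R, c * x = x * c) → c = 1
  noP : ¬ HasP p σ Γ
  noM : ¬ HasM hp p Γ

/-- toral vectors -/
def InT (v : D.Idx → KK p) : Prop := ∀ s, v (Sum.inr s) = 0

/-- the weights of the adjoint module -/
def wL (D : ChevalleyDatum) (l : ℕ) : D.Idx → Fin l → ℤ := Sum.elim (fun _ => 0) fun s : Fin D.nroots => vec D l s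

/-- polynomial representations with weights in the root lattice -/
structure PRep (S : Type) [Fintype S] [DecidableEq S] where
  ρ : YY D p →* Matrix S S (KK p)
  w : S → Fin l → ℤ
  poly : ∃ A : Matrix S S (MvPolynomial (D.Idx × D.Idx) (KK p)), ∀ (y : YY D p) (s s' : S),
    ρ y s s' = MvPolynomial.aeval (LangThm.co (y : GL D.Idx (KK p))) (A s s')
  tor : ∀ t ∈ TT D (KK p), ρ t = Matrix.diagonal fun s => cX hp t (w s)
  up : ∀ a, RT hp a → ∀ x ∈ XX D l (KK p) a, ∀ s s', ρ x s s' ≠ 0 → ∃ m : ℕ, w s = w s' + (m : ℤ) • a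

end Defs

/-! ### the boxes -/

/-- [XF] the frame of `SB.Exc` gives `KF`; `Γ` = the lifts of `H` -/
def BoxXF : Prop := ∀ (D : ChevalleyDatum) (l : ℕ) (M : CoxeterMatrix (Fin l)) (hp : IsType D l M) (p : ℕ) [Fact p.Prime]
  (q : ℕ) (G : Type) [Group G] (T H : Subgroup G) (F : XF hp p q T), T.Normal → Subgroup.centralizer (T : Set G) = ⊥ →
    KF hp p F.L.σ ((H.comap F.L.π).map F.L.Γ.subtype) ∧
      (∀ A : Subgroup (YY D p), Iv ((H.comap F.L.π).map F.L.Γ.subtype) A ↔ F.L.Inv H A) ∧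
      ((∀ φ : F.L.Γ, F.L.π φ ∈ H → (F.κ : ℤ) ∣ F.deg φ) → Ev p F.L.σ ((H.comap F.L.π).map F.L.Γ.subtype))

/-- [END] an invariant proper parabolic subgroup gives an invariant `p`-subgroup of the finite group -/
def BoxEnd : Prop := ∀ (D : ChevalleyDatum) (l : ℕ) (M : CoxeterMatrix (Fin l)) (hp : IsType D l M) (p : ℕ) [Fact p.Prime]
  (σ : MulAut (YY D p)) (Γ : Subgroup (MulAut (YY D p))), KF hp p σ Γ → ∀ (g : YY D p) (μ : (Fin l → ℤ) →+ ℝ), μ ≠ 0 →
    (∀ i, 0 ≤ μ (sr i)) → (∀ φ ∈ Γ, (∃ y ψ, Frm hp p φ y ψ) → ∃ (y : YY D p) (ψ : (Fin l → ℤ) →+ (Fin l → ℤ)) (s : ℝ), Frm hp p φ y ψ ∧ 0 < s ∧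
      (∀ a, μ (ψ a) = s * μ a) ∧ g⁻¹ * φ g * y⁻¹ ∈ PL hp p μ) → HasP p σ Γ

/-- [TM] an invariant toral group gives an invariant subgroup of maximal rank -/
def BoxTM : Prop := ∀ (D : ChevalleyDatum) (l : ℕ) (M : CoxeterMatrix (Fin l)) (hp : IsType D l M) (p : ℕ) [Fact p.Prime]
  (σ : MulAut (YY D p)) (Γ : Subgroup (MulAut (YY D p))), KF hp p σ Γ → HasT p Γ → HasM hp p Γ

/-- [C] the centraliser of `R` contains no torus -/
def BoxC : Prop := ∀ (D : ChevalleyDatum) (l : ℕ) (M : CoxeterMatrix (Fin l)) (hp : IsType D l M) (p : ℕ) [Fact p.Prime]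
  (σ : MulAut (YY D p)) (Γ : Subgroup (MulAut (YY D p))) (R : Subgroup (YY D p)), KF hp p σ Γ → Finite R → Iv Γ R →
    (∀ x ∈ R, σ x = x) → (∀ c : YY D p, σ c = c → (∀ x ∈ R, c * x = x * c) → c = 1) → ¬ HasT p Γ → NoC p R

/-- [IRR] -/
def BoxIrr : Prop := ∀ (D : ChevalleyDatum) (l : ℕ) (M : CoxeterMatrix (Fin l)) (hp : IsType D l M) (p : ℕ) [Fact p.Prime]
  (σ : MulAut (YY D p)) (Γ : Subgroup (MulAut (YY D p))) (R : Subgroup (YY D p)), KF hp p σ Γ → Finite R → Iv Γ R →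
    NoC p R → ¬ HasP p σ Γ → Irr hp p R

/-- [SS] the fixed vectors of an irreducible group are semisimple -/
def BoxSS : Prop := ∀ (D : ChevalleyDatum) (l : ℕ) (M : CoxeterMatrix (Fin l)) (hp : IsType D l M), Typ D →
  ∀ (p : ℕ) [Fact p.Prime] (R : Subgroup (YY D p)), Irr hp p R →
    ∀ v ∈ Fx p (R : Set (YY D p)), ∃ g : YY D p, InT p (ad D p g v)

/-- [TOR] a fixed space of semisimple vectors is conjugate into the Cartan subalgebra -/
def BoxTor : Prop := ∀ (D : ChevalleyDatum) (l : ℕ) (M : CoxeterMatrix (Fin l)) (_ : IsType D l M), Typ D →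
  ∀ (p : ℕ) [Fact p.Prime] (Z : Set (YY D p)), (∀ v ∈ Fx p Z, ∃ g : YY D p, InT p (ad D p g v)) →
    ∃ g : YY D p, ∀ v ∈ Fx p Z, InT p (ad D p g v)

/-- [LIM] the orbit of a vector fixed by an irreducible group contains its limits -/
def BoxLim : Prop := ∀ (D : ChevalleyDatum) (l : ℕ) (M : CoxeterMatrix (Fin l)) (hp : IsType D l M) (p : ℕ) [Fact p.Prime]
  (S : Type) [Fintype S] [DecidableEq S] (P : PRep hp p S) (Z : Subgroup (YY D p)), Irr hp p Z →
    ∀ x : S → KK p, (∀ z ∈ Z, (P.ρ z).mulVec x = x) → ∀ (g : YY D p) (μ : (Fin l → ℤ) →+ ℝ),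
      (∀ s, (P.ρ g).mulVec x s ≠ 0 → 0 ≤ μ (P.w s)) →
        ∃ h : YY D p, ∀ s, (μ (P.w s) = 0 → (P.ρ h).mulVec x s = (P.ρ g).mulVec x s) ∧
          (μ (P.w s) ≠ 0 → (P.ρ h).mulVec x s = 0)

end Cfsg.Agent.N2.Ex.K
end

-- part: N2/Ex/K/Base
section
prune_inst 0x201030400da202000018050230003c06b4000092004b8000180002440e42dc4200010e2114701910001a84c020340048111000400200000000008200000401000400820680488108600088800082000000000000000000000000000000051004000000000
set_option linter.all false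
open scoped Cfsg.Agent.FastGrp

/-!
# S3519, exceptional groups, box (K): basic tools (helper70)

* `dat` : the split datum; `sep` : the torus separates the lattice; `mx y` : matrices; `mx_T`, `xc_entry`, `xc_sub_entry`;
* `rl hp v` : the toral part of `v` as an additive map on the root lattice; `ad_xc_T`, `ad_T_T`;
* `PL` : `T_le_PL`, `X_le_PL`, `PL_le`, `PL_mono`, `U_le_PL`, `bruhat`, `rep_mem_PL`;
* `Frm.rp`, `Frm.mul`, `Frm.map_PL`, `Frm.wfr`, `KF.frm_pow`, `KF.exists_frm`;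
* `PRep.tri`, `PRep.mon`; `adP` : the adjoint module.
-/

set_option autoImplicit false
set_option linter.unusedSectionVars false

namespace Cfsg.Agent.N2.Ex.K

open CoxeterSystem Cfsg Cfsg.Lie Cfsg.Lie.ChevalleyDatum Matrix
open Cfsg.Agent.ChevalleyStructure Cfsg.Agent.ChevalleyStructure.Elts Cfsg.Agent.ChevalleyStructure.CoxeterGeom
  Cfsg.Agent.ChevalleyStructure.CoxeterGeomTypes
open Cfsg.Agent.Tits.Roots Cfsg.Agent.Tits.Core Cfsg.Agent.Nodes Cfsg.Agent.Nodes.Reps Cfsg.Agent.Nodes.BNOf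
  Cfsg.Agent.Nodes.RGDChev Cfsg.Agent.Nodes.Bruhat Cfsg.Agent.Nodes.NormalForm
open Cfsg.Agent.KFacts.RgdField Cfsg.Agent.KFacts.RgdChevCoord
open Cfsg.Agent.BpExc Cfsg.Agent.BpExc.TorCent Cfsg.Agent.BpExc.TorChev Cfsg.Agent.BpExc.Tow
  Cfsg.Agent.BpExc.TowChev Cfsg.Agent.BpExc.Fr Cfsg.Agent.BpExc.LangFr
open Cfsg.Agent.H469.Exc Cfsg.Agent.H129.TorusChar Cfsg.Agent.DS.Ex Cfsg.Agent.DS.Nt Cfsg.Agent.DS.Ex.Tor
  Cfsg.Agent.SB.Exc

variable {D : ChevalleyDatum} {l : ℕ} {M : CoxeterMatrix (Fin l)} (hp : IsType D l M) (p : ℕ) [Fact p.Prime]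

/-- the split datum -/
noncomputable abbrev dat : DL.Datum p (D.group (KK p)).subtype (DL.Ex.frobA hp.inList p 1) ⊤ :=
  DL.Ex.chev hp (locFin p) one_pos

/-- the action of the Weyl group as an additive map -/
noncomputable def rA (w : M.Group) : (Fin l → ℤ) →+ (Fin l → ℤ) := (rep M.toCoxeterSystem hp.isCartan w).toAddMonoidHom

theorem rA_apply (w : M.Group) (a : Fin l → ℤ) : rA hp w a = rep M.toCoxeterSystem hp.isCartan w a := rfl

theorem rA_mul (v w : M.Group) (a : Fin l → ℤ) : rA hp (v * w) a = rA hp v (rA hp w a) := rep_mul_apply _ _ _ _ _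

theorem rA_inv (w : M.Group) (a : Fin l → ℤ) : rA hp w⁻¹ (rA hp w a) = a := rep_inv_apply _ _ _ _

theorem rA_inv' (w : M.Group) (a : Fin l → ℤ) : rA hp w (rA hp w⁻¹ a) = a := rep_apply_inv _ _ _ _

theorem finite_RT : {a | RT hp a}.Finite := (dat hp 2).finite_roots

/-- the torus separates the points of the lattice -/
theorem sep {a b : Fin l → ℤ} (h : ∀ t ∈ TT D (KK p), cX hp t a = cX hp t b) : a = b := by
  refine (dat hp p).eq_of_χ fun t ht => ?_
  obtain ⟨c, rfl⟩ := ((dat hp p).mem_T t).1 ht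
  have h1 := ((DL.Ex.cX_tau hp c a).symm.trans (h _ (DL.Ex.tau_mem hp c))).trans (DL.Ex.cX_tau hp c b)
  exact ((dat hp p).χ_τ a c).trans (h1.trans ((dat hp p).χ_τ b c).symm)

variable {p}

/-- the matrix of an element -/
def mx (y : YY D p) : Matrix D.Idx D.Idx (KK p) := ((y : GL D.Idx (KK p)) : Matrix D.Idx D.Idx (KK p))

theorem mx_mul (g h : YY D p) : mx (g * h) = mx g * mx h := rfl

theorem mx_one : mx (1 : YY D p) = 1 := rfl

theorem mx_inv_mul (g : YY D p) : mx g⁻¹ * mx g = 1 := by rw [← mx_mul, inv_mul_cancel, mx_one]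

theorem mx_injective : Function.Injective (mx : YY D p → _) := fun _ _ h => Subtype.ext (Units.ext h)

theorem ad_eq (y : YY D p) (v : D.Idx → KK p) : ad D p y v = mx y *ᵥ v := rfl

theorem wL_inl (i : Fin D.rank) : wL D l (Sum.inl i) = 0 := rfl

theorem wL_inr (s : Fin D.nroots) : wL D l (Sum.inr s) = vec D l s := rfl

theorem rt_vec (s : Fin D.nroots) : RT hp (vec D l s) := isRoot_vec hp _ s.2

theorem exists_idx {a : Fin l → ℤ} (ha : RT hp a) : ∃ s : Fin D.nroots, vec D l s = a := by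
  obtain ⟨r, hr, e⟩ := (isRoot_iff hp _ a).1 ha
  exact ⟨⟨r, hr⟩, e⟩

theorem mx_T {t : YY D p} (ht : t ∈ TT D (KK p)) : mx t = Matrix.diagonal fun i => cX hp t (wL D l i) := by
  obtain ⟨c, rfl⟩ := (DL.Ex.mem_TT_iff hp t).1 ht
  rw [mx, DL.Ex.coe_tau]
  congr 1
  funext i
  rw [DL.Ex.cX_tau]
  rfl

theorem T_conj_xc {t : YY D p} (ht : t ∈ TT D (KK p)) {a : Fin l → ℤ} (ha : RT hp a) (u : KK p) :
    t * xc hp a u * t⁻¹ = xc hp a (cX hp t a * u) := by
  obtain ⟨c, rfl⟩ := (DL.Ex.mem_TT_iff hp t).1 ht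
  rw [DL.Ex.tau_conj hp _ ha, DL.Ex.cX_tau]

theorem xc_zero {a : Fin l → ℤ} (ha : RT hp a) : xc hp a (0 : KK p) = 1 := (dat hp p).x_zero ha

theorem mem_XX {a : Fin l → ℤ} (ha : RT hp a) {y : YY D p} : y ∈ XX D l (KK p) a ↔ ∃ u, xc hp a u = y :=
  (dat hp p).mem_X a ha y

/-- polynomial functions which are eigenvectors of the torus -/
theorem wt_of_poly {a b : Fin l → ℤ} {f : Polynomial (KK p)}
    (h : ∀ t ∈ TT D (KK p), ∀ u, f.eval (cX hp t a * u) = cX hp t b * f.eval u) {m : ℕ} (hm : f.coeff m ≠ 0) :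
    b = (m : ℤ) • a := by
  refine sep hp p fun t ht => ?_
  have h1 : f.comp (Polynomial.C (cX hp t a) * Polynomial.X) = Polynomial.C (cX hp t b) * f := by
    apply Polynomial.funext
    intro u
    rw [Polynomial.eval_comp, Polynomial.eval_mul, Polynomial.eval_C, Polynomial.eval_X, h t ht, Polynomial.eval_mul,
      Polynomial.eval_C]
  have h2 := congrArg (fun g => Polynomial.coeff g m) h1
  simp only [Polynomial.comp_C_mul_X_coeff, Polynomial.coeff_C_mul] at h2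
  rw [(isMC_cX hp ht).zsmul, zpow_natCast]
  exact (mul_left_cancel₀ hm (h2.trans (mul_comm _ _))).symm

theorem xc_poly {a : Fin l → ℤ} (ha : RT hp a) (i k : D.Idx) : ∃ f : Polynomial (KK p),
    (∀ u, mx (xc hp a u) i k = f.eval u) ∧ ∀ m, f.coeff m ≠ 0 → wL D l i = wL D l k + (m : ℤ) • a := by
  obtain ⟨f, hf⟩ := (dat hp p).polyx a ha i k
  have hf' : ∀ u, mx (xc hp a u) i k = f.eval u := hf
  refine ⟨f, hf', fun m hm => ?_⟩
  rw [← sub_eq_iff_eq_add']
  refine wt_of_poly hp (fun t ht u => ?_) hm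
  have h1 : mx (xc hp a (cX hp t a * u)) * mx t = mx t * mx (xc hp a u) := by
    rw [← T_conj_xc hp ht ha, ← mx_mul, ← mx_mul, inv_mul_cancel_right]
  have h2 := congrFun (congrFun h1 i) k
  rw [mx_T hp ht, mul_diagonal, diagonal_mul, hf', hf'] at h2
  rw [(isMC_cX hp ht).sub, div_mul_eq_mul_div, eq_div_iff ((isMC_cX hp ht).ne_zero _), h2]

theorem xc_entry {a : Fin l → ℤ} (ha : RT hp a) {x : YY D p} (hx : x ∈ XX D l (KK p) a) {i k : D.Idx}
    (h : mx x i k ≠ 0) : ∃ m : ℕ, wL D l i = wL D l k + (m : ℤ) • a := by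
  obtain ⟨u, rfl⟩ := (mem_XX hp ha).1 hx
  obtain ⟨f, h1, h2⟩ := xc_poly (p := p) hp ha i k
  have h3 : f ≠ 0 := by
    rintro rfl
    exact h (by rw [h1, Polynomial.eval_zero])
  exact ⟨_, h2 _ (Polynomial.leadingCoeff_ne_zero.2 h3)⟩

theorem xc_sub_entry {a : Fin l → ℤ} (ha : RT hp a) {x : YY D p} (hx : x ∈ XX D l (KK p) a) {i k : D.Idx}
    (h : (mx x - 1) i k ≠ 0) : ∃ m : ℕ, 1 ≤ m ∧ wL D l i = wL D l k + (m : ℤ) • a := by
  obtain ⟨u, rfl⟩ := (mem_XX hp ha).1 hx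
  obtain ⟨f, h1, h2⟩ := xc_poly (p := p) hp ha i k
  have h3 : f.natDegree ≠ 0 := by
    intro h0
    apply h
    have h4 := h1 0
    rw [xc_zero hp ha, mx_one] at h4
    rw [Matrix.sub_apply, h4, h1, Polynomial.eq_C_of_natDegree_eq_zero h0, Polynomial.eval_C, Polynomial.eval_C, sub_self]
  have h5 : f ≠ 0 := by
    rintro rfl
    exact h3 Polynomial.natDegree_zero
  exact ⟨_, Nat.one_le_iff_ne_zero.2 h3, h2 _ (Polynomial.leadingCoeff_ne_zero.2 h5)⟩

/-! ### the toral part -/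

/-- the toral part of `v` as an additive map on the root lattice -/
noncomputable def rl (v : D.Idx → KK p) : (Fin l → ℤ) →+ KK p where
  toFun a := ∑ i : Fin D.rank, ((pairing (cartanOf D l) (Fin.cast hp.rank_eq i) a : ℤ) : KK p) * v (Sum.inl i)
  map_zero' := by simp [pairing]
  map_add' a b := by
    rw [← Finset.sum_add_distrib]
    refine Finset.sum_congr rfl fun i _ => ?_
    rw [pairing_add, Int.cast_add, add_mul]

theorem rl_apply (v : D.Idx → KK p) (a : Fin l → ℤ) : rl hp v a =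
    ∑ i : Fin D.rank, ((pairing (cartanOf D l) (Fin.cast hp.rank_eq i) a : ℤ) : KK p) * v (Sum.inl i) := rfl

theorem rl_vec (v : D.Idx → KK p) (r : Fin D.nroots) : rl hp v (vec D l r) = E8A.Bor.rvR D r v := by
  rw [rl_apply]
  refine Finset.sum_congr rfl fun i _ => ?_
  rw [pairing_vec hp _ r.2]
  rfl

theorem rl_add (v w : D.Idx → KK p) (a : Fin l → ℤ) : rl hp (v + w) a = rl hp v a + rl hp w a := by
  rw [rl_apply, rl_apply, rl_apply, ← Finset.sum_add_distrib]
  exact Finset.sum_congr rfl fun i _ => by rw [Pi.add_apply, mul_add]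

theorem rl_smul (c : KK p) (v : D.Idx → KK p) (a : Fin l → ℤ) : rl hp (c • v) a = c * rl hp v a := by
  rw [rl_apply, rl_apply, Finset.mul_sum]
  exact Finset.sum_congr rfl fun i _ => by rw [Pi.smul_apply, smul_eq_mul, mul_left_comm]

theorem mx_xc (r : Fin D.nroots) (u : KK p) : mx (xc hp (vec D l r) u) = Ring.xR D (KK p) r.val u := by
  rw [mx, coe_xc hp r.2]
  rfl

/-- the action of a root element on a toral vector -/
theorem ad_xc_T (r : Fin D.nroots) (u : KK p) {h : D.Idx → KK p} (hh : InT p h) :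
    ad D p (xc hp (vec D l r) u) h = h - Pi.single (Sum.inr r) (rl hp h (vec D l r) * u) := by
  rw [ad_eq, mx_xc, E8A.Bor.xR_toral D r u hh, rl_vec]

include hp in
theorem ad_T_T {t : YY D p} (ht : t ∈ TT D (KK p)) {h : D.Idx → KK p} (hh : InT p h) : ad D p t h = h := by
  funext i
  rw [ad_eq, mx_T hp ht, mulVec_diagonal]
  rcases i with i | s
  · rw [wL_inl, (isMC_cX hp ht).zero, one_mul]
  · rw [hh s, mul_zero]

/-! ### parabolic subgroups -/

section Par

variable {hp} {μ μ' : (Fin l → ℤ) →+ ℝ}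

theorem T_le_PL : TT D (KK p) ≤ PL hp p μ := le_sup_right

theorem X_le_PL {a : Fin l → ℤ} (ha : RT hp a) (h : 0 ≤ μ a) : XX D l (KK p) a ≤ PL hp p μ :=
  (RGD.le_Sup (S := {a | RT hp a ∧ 0 ≤ μ a}) ⟨ha, h⟩).trans le_sup_left

theorem PL_le {K : Subgroup (YY D p)} (h1 : TT D (KK p) ≤ K) (h2 : ∀ a, RT hp a → 0 ≤ μ a → XX D l (KK p) a ≤ K) :
    PL hp p μ ≤ K := sup_le (RGD.Sup_le fun a ha => h2 a ha.1 ha.2) h1

theorem map_eq_sum (μ : (Fin l → ℤ) →+ ℝ) (a : Fin l → ℤ) : μ a = ∑ i, (a i : ℝ) * μ (sr i) := by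
  conv_lhs => rw [IsMC.eq_sum_sr a]
  rw [map_sum]
  exact Finset.sum_congr rfl fun i _ => by rw [map_zsmul, zsmul_eq_mul]

theorem dom_nonneg (hd : ∀ i, 0 ≤ μ (sr i)) {a : Fin l → ℤ} (ha : 0 ≤ a) : 0 ≤ μ a := by
  rw [map_eq_sum]
  exact Finset.sum_nonneg fun i _ => mul_nonneg (Int.cast_nonneg (ha i)) (hd i)

theorem U_le_PL (hd : ∀ i, 0 ≤ μ (sr i)) : MS D p (RGD.Pos M.toCoxeterSystem hp.isCartan) ≤ PL hp p μ :=
  RGD.Sup_le fun _ ha => X_le_PL ha.1 (dom_nonneg hd ha.2)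

theorem exists_sr_ne (h : μ ≠ 0) : ∃ i, μ (sr i) ≠ 0 := by
  by_contra hc
  push Not at hc
  refine h (AddMonoidHom.ext fun a => ?_)
  rw [map_eq_sum, Finset.sum_eq_zero fun i _ => by rw [hc i, mul_zero]]
  rfl

variable (hp) in
/-- **Bruhat decomposition** -/
theorem bruhat (g : YY D p) : ∃ u ∈ MS D p (RGD.Pos M.toCoxeterSystem hp.isCartan), ∃ w n, RP hp p w n ∧
    ∃ v ∈ MS D p (NW M.toCoxeterSystem hp.isCartan w), g = u * n * v := by
  have := finW hp
  obtain ⟨w, u, hu, k, hk, v, hv, e⟩ := (tw hp p).exists_normal_form (g := g) (by rw [GGW hp p]; exact Subgroup.mem_top _)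
  rw [XLe hp p] at hu hv
  exact ⟨u, hu, w, k, hk, v, hv, e⟩

theorem NW_le_U (w : M.Group) :
    MS D p (NW M.toCoxeterSystem hp.isCartan w) ≤ MS D p (RGD.Pos M.toCoxeterSystem hp.isCartan) :=
  RGD.Sup_mono fun _ ha => ⟨ha.1, ha.2.1⟩

variable (hp) in
theorem rp_nc (i : Fin l) : RP hp p (M.toCoxeterSystem.simple i) (nc hp (KK p) i) := rp_simple _ _ i

theorem rep_mem_PL (hd : ∀ i, 0 ≤ μ (sr i)) : ∀ (k : ℕ) (w : M.Group) (n : YY D p), M.toCoxeterSystem.length w = k →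
    RP hp p w n → (∀ a, μ (rA hp w a) = μ a) → n ∈ PL hp p μ := by
  intro k
  induction k using Nat.strong_induction_on with
  | _ k ih =>
    intro w n hk hn hw
    by_cases h1 : w = 1
    · subst h1
      exact T_le_PL hn.mem_T
    · obtain ⟨i, hi⟩ := M.toCoxeterSystem.exists_rightDescent_of_ne_one h1
      have hneg : rA hp w (sr i) ≤ 0 := nonpos_of_lt M.toCoxeterSystem hp.isCartan w i hi
      have h0 : μ (sr i) = 0 := by
        refine le_antisymm ?_ (hd i)
        have h2 := dom_nonneg hd (neg_nonneg.2 hneg)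
        rw [map_neg, hw] at h2
        exact neg_nonneg.1 h2
      have hw' : ∀ a, μ (rA hp (w * M.toCoxeterSystem.simple i) a) = μ a := fun a => by
        rw [rA_mul, hw, rA_apply, rep_simple_eq, map_sub, map_zsmul, h0, smul_zero, sub_zero]
      have h2 := ih _ (hk ▸ hi) _ _ rfl (hn.mul (rp_nc hp i)) hw'
      have h3 : nc hp (KK p) i ∈ PL hp p μ :=
        (sup_le T_le_PL (sup_le (X_le_PL (isRoot_sr _ _ i) h0.ge)
          (X_le_PL (isRoot_sr _ _ i).neg (by rw [map_neg, h0, neg_zero]))) :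
            TT D (KK p) ⊔ (XX D l (KK p) (sr i) ⊔ XX D l (KK p) (-sr i)) ≤ PL hp p μ) ((dat hp p).n_mem_sup i)
      simpa using mul_mem h2 (inv_mem h3)

end Par

/-! ### frames -/

section Frm

variable {hp} {φ φ' : MulAut (YY D p)} {y y' : YY D p} {ψ ψ' : (Fin l → ℤ) →+ (Fin l → ℤ)}

theorem Frm.rp {w : M.Group} {n : YY D p} (h : RP hp p w n) : Frm hp p 1 n (rA hp w⁻¹) where
  tor t := h.conj_iff t
  chr t ht x := by
    have h1 := h.cX ht (rA hp w⁻¹ x)
    rw [← rA_apply hp, rA_inv'] at h1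
    exact h1
  root := ⟨rA hp w, ⟨fun a ha => ha.act w, fun a _ b _ e => by rw [← rA_inv hp w a, e, rA_inv],
      fun a ha => ⟨rA hp w⁻¹ a, ha.act w⁻¹, rA_inv' hp w a⟩⟩,
    fun a ha => ⟨⟨1, one_pos, by rw [rA_inv, one_smul]⟩, fun x => h.fr.map a ha x⟩⟩

theorem Frm.mul (h : Frm hp p φ y ψ) (h' : Frm hp p φ' y' ψ') : Frm hp p (φ * φ') (y * φ y') (ψ'.comp ψ) := by
  have e : ∀ x, y * φ y' * (φ * φ') x * (y * φ y')⁻¹ = y * φ (y' * φ' x * y'⁻¹) * y⁻¹ := fun x => by
    rw [map_mul, map_mul, map_inv, MulAut.mul_apply]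
    group
  obtain ⟨g, hg, h1⟩ := h.root
  obtain ⟨g', hg', h2⟩ := h'.root
  refine ⟨fun t => by rw [e, h.tor, h'.tor], fun t ht x => ?_, g ∘ g', hg.comp hg', fun a ha => ⟨?_, fun x => ?_⟩⟩
  · rw [e, h.chr _ ((h'.tor t).2 ht), h'.chr t ht]
    rfl
  · obtain ⟨c, hc, e1⟩ := (h1 _ (hg'.mapsTo ha)).1
    obtain ⟨c', hc', e2⟩ := (h2 a ha).1
    refine ⟨c * c', mul_pos hc hc', ?_⟩
    rw [AddMonoidHom.comp_apply, Function.comp_apply, e1, map_zsmul, e2, mul_smul]
  · rw [e, Function.comp_apply, (h1 _ (hg'.mapsTo ha)).2, (h2 a ha).2]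

theorem Frm.left (h : Frm hp p φ y ψ) {w : M.Group} {n : YY D p} (hn : RP hp p w n) :
    Frm hp p φ (n * y) (ψ.comp (rA hp w⁻¹)) := by
  have h1 := (Frm.rp hn).mul h
  rwa [one_mul] at h1

theorem Frm.map_PL (h : Frm hp p φ y ψ) {μ : (Fin l → ℤ) →+ ℝ} {x : YY D p} (hx : x ∈ PL hp p μ) :
    y * φ x * y⁻¹ ∈ PL hp p (μ.comp ψ) := by
  obtain ⟨g, hg, h1⟩ := h.root
  have h2 : PL hp p μ ≤ (PL hp p (μ.comp ψ)).comap (MulAut.conj y * φ).toMonoidHom := by
    refine PL_le (fun t ht => T_le_PL ((h.tor t).2 ht)) fun a ha h0 x hx => X_le_PL (hg.mapsTo ha) ?_ (((h1 a ha).2 x).2 hx)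
    obtain ⟨c, hc, e⟩ := (h1 a ha).1
    rw [AddMonoidHom.comp_apply, e, map_zsmul, zsmul_eq_mul]
    exact mul_nonneg (Int.cast_nonneg hc.le) h0
  exact h2 hx

theorem Frm.comp_ne (h : Frm hp p φ y ψ) {μ : (Fin l → ℤ) →+ ℝ} (hμ : μ ≠ 0) : μ.comp ψ ≠ 0 := by
  obtain ⟨g, -, h1⟩ := h.root
  obtain ⟨i, hi⟩ := exists_sr_ne hμ
  obtain ⟨c, hc, e⟩ := (h1 _ (isRoot_sr _ _ i)).1
  intro h0
  have h2 : μ (ψ (g (sr i))) = 0 := DFunLike.congr_fun h0 _
  rw [e, map_zsmul, zsmul_eq_mul] at h2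
  exact mul_ne_zero (Int.cast_ne_zero.2 hc.ne') hi h2

theorem Frm.wfr (h : Frm hp p φ y ψ) : WFr hp p (MulAut.conj y * φ) := by
  obtain ⟨g, hg, h1⟩ := h.root
  exact ⟨h.tor, fun a ha => ⟨g a, hg.mapsTo ha, (h1 a ha).2⟩⟩

variable {σ : MulAut (YY D p)} {Γ : Subgroup (MulAut (YY D p))}

theorem KF.frm_pow (K : KF hp p σ Γ) (h : ∃ y ψ, Frm hp p φ y ψ) (j : ℕ) : ∃ y ψ, Frm hp p (φ * σ ^ j) y ψ := by
  induction j with
  | zero => rwa [pow_zero, mul_one]
  | succ j ih =>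
    obtain ⟨y, ψ, h1⟩ := ih
    obtain ⟨y', ψ', h2⟩ := K.frmσ
    exact ⟨_, _, by rw [pow_succ, ← mul_assoc]; exact h1.mul h2⟩

/-- finite sets are fixed by a power of `σ` -/
theorem KF.exists_pow (K : KF hp p σ Γ) {Z : Set (YY D p)} (hZ : Z.Finite) : ∃ N, 0 < N ∧ ∀ z ∈ Z, (σ ^ N) z = z := by
  have := hZ.to_subtype
  obtain ⟨N, hN, h⟩ := K.amb.exists_pow_fix (Subtype.val : Z → YY D p)
  exact ⟨N, hN, fun z hz => h ⟨z, hz⟩⟩

theorem pow_fix {G : Type*} [Group G] {τ : MulAut G} {z : G} (h : τ z = z) (m : ℕ) : (τ ^ m) z = z := by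
  induction m with
  | zero => rfl
  | succ m ih => rw [pow_succ, MulAut.mul_apply, h, ih]

/-- on a finite set every lift acts as a lift with a frame -/
theorem KF.exists_frm (K : KF hp p σ Γ) (hφ : φ ∈ Γ) {Z : Set (YY D p)} (hZ : Z.Finite) :
    ∃ φ' ∈ Γ, (∃ y ψ, Frm hp p φ' y ψ) ∧ ∀ z ∈ Z, φ' z = φ z := by
  obtain ⟨N, hN, h1⟩ := K.exists_pow hZ
  obtain ⟨m, h2⟩ := K.frm φ hφ
  refine ⟨φ * σ ^ m * σ ^ (N * m - m), mul_mem (mul_mem hφ (pow_mem K.mem _)) (pow_mem K.mem _), K.frm_pow h2 _,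
    fun z hz => ?_⟩
  rw [mul_assoc, ← pow_add, Nat.add_sub_cancel' (Nat.le_mul_of_pos_left m hN), MulAut.mul_apply, pow_mul,
    pow_fix (h1 z hz)]

end Frm

/-! ### representations -/

section Rep

variable {hp} {S : Type} [Fintype S] [DecidableEq S] (P : PRep hp p S)

theorem exists_mid {K : Type*} [Field K] {A B : Matrix S S K} {i j : S} (h : (A * B) i j ≠ 0) :
    ∃ k, A i k ≠ 0 ∧ B k j ≠ 0 := by
  rw [Matrix.mul_apply] at h
  obtain ⟨k, -, hk⟩ := Finset.exists_ne_zero_of_sum_ne_zero h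
  exact ⟨k, left_ne_zero_of_mul hk, right_ne_zero_of_mul hk⟩

theorem PRep.tri {μ : (Fin l → ℤ) →+ ℝ} {m : YY D p} (hm : m ∈ PL hp p μ) {s s' : S} (h : P.ρ m s s' ≠ 0) :
    μ (P.w s') ≤ μ (P.w s) := by
  let K : Subgroup (YY D p) :=
    { carrier := {m | (∀ s s', P.ρ m s s' ≠ 0 → μ (P.w s') ≤ μ (P.w s)) ∧
        ∀ s s', P.ρ m⁻¹ s s' ≠ 0 → μ (P.w s') ≤ μ (P.w s)}
      one_mem' := by
        have h1 : ∀ s s', P.ρ 1 s s' ≠ 0 → μ (P.w s') ≤ μ (P.w s) := fun s s' h => by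
          rw [map_one] at h
          by_contra hc
          exact h (Matrix.one_apply_ne fun e => hc (by rw [e]))
        exact ⟨h1, by rw [inv_one]; exact h1⟩
      mul_mem' := by
        rintro a b ⟨a1, a2⟩ ⟨b1, b2⟩
        refine ⟨fun s s' h => ?_, fun s s' h => ?_⟩
        · rw [map_mul] at h
          obtain ⟨k, h1, h2⟩ := exists_mid h
          exact (b1 _ _ h2).trans (a1 _ _ h1)
        · rw [_root_.mul_inv_rev, map_mul] at h
          obtain ⟨k, h1, h2⟩ := exists_mid h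
          exact (a2 _ _ h2).trans (b2 _ _ h1)
      inv_mem' := fun h => ⟨h.2, by rw [inv_inv]; exact h.1⟩ }
  have hT : ∀ t ∈ TT D (KK p), ∀ s s', P.ρ t s s' ≠ 0 → μ (P.w s') ≤ μ (P.w s) := fun t ht s s' h => by
    rw [P.tor t ht] at h
    by_contra hc
    exact h (Matrix.diagonal_apply_ne _ fun e => hc (by rw [e]))
  have hX : ∀ a, RT hp a → 0 ≤ μ a → ∀ x ∈ XX D l (KK p) a, ∀ s s', P.ρ x s s' ≠ 0 → μ (P.w s') ≤ μ (P.w s) :=
    fun a ha h0 x hx s s' h => by
      obtain ⟨k, e⟩ := P.up a ha x hx s s' h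
      rw [e, map_add, map_zsmul, zsmul_eq_mul]
      exact le_add_of_nonneg_right (mul_nonneg (Int.cast_nonneg (Int.natCast_nonneg k)) h0)
  have h1 : PL hp p μ ≤ K := PL_le (fun t ht => ⟨hT t ht, hT _ (inv_mem ht)⟩)
    fun a ha h0 x hx => ⟨hX a ha h0 x hx, hX a ha h0 _ (inv_mem hx)⟩
  exact (h1 hm).1 s s' h

theorem PRep.mon {w : M.Group} {n : YY D p} (hn : RP hp p w n) {s s' : S} (h : P.ρ n s s' ≠ 0) :
    P.w s = rA hp w (P.w s') := by
  rw [← rA_inv' hp w (P.w s)]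
  congr 1
  refine sep hp p fun t ht => ?_
  have h1 : P.ρ (n * t * n⁻¹) * P.ρ n = P.ρ n * P.ρ t := by rw [← map_mul, ← map_mul, inv_mul_cancel_right]
  have h2 := congrFun (congrFun h1 s) s'
  rw [P.tor _ (hn.conj_mem ht), P.tor t ht, diagonal_mul, mul_diagonal, mul_comm] at h2
  rw [← mul_left_cancel₀ h h2]
  exact ((Frm.rp hn).chr t ht _).symm

variable (hp p) in
/-- the adjoint module -/
noncomputable def adP : PRep hp p D.Idx where
  ρ := { toFun := mx, map_one' := mx_one, map_mul' := mx_mul }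
  w := wL D l
  poly := ⟨fun i j => MvPolynomial.X (i, j), fun y s s' => by rw [MvPolynomial.aeval_X]; rfl⟩
  tor _ ht := mx_T hp ht
  up _ ha _ hx _ _ h := xc_entry hp ha hx h

end Rep

end Cfsg.Agent.N2.Ex.K

private theorem dce_465a59181683 : _root_.True := by
  try have : _root_.True := by simp only [_root_.Cfsg.Agent.N2.Ex.K.mx.eq_1]
  try have : _root_.True := by simp only [_root_.Cfsg.Agent.N2.Ex.K.PL.congr_simp]
  exact _root_.True.intro
end

-- part: N2/Ex/K/Tor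
section
prune_inst 0x10000000000000
set_option linter.all false
open scoped Cfsg.Agent.FastGrp

/-!
# S3519, exceptional groups, box (K): `boxTor` (helper71)

`br x y` is the Lie bracket on the adjoint module, `Am x` the matrix of `ad x`.
-/

set_option autoImplicit false
set_option linter.unusedSectionVars false

namespace Cfsg.Agent.N2.Ex.K

open Cfsg Cfsg.Lie Cfsg.Lie.ChevalleyDatum Matrix Module
open Cfsg.Agent.ChevalleyStructure Cfsg.Agent.ChevalleyStructure.LieAbs Cfsg.Agent.ChevalleyStructure.LieAut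
open Cfsg.Agent.ChevalleyStructure.JacMain (adA adH)
open Cfsg.Agent.H469.Exc Cfsg.Agent.DS.Ex Cfsg.Agent.DS.Nt

namespace Tor

section lin

variable {ι K : Type} [Fintype ι] [DecidableEq ι] [Field K]

/-- a diagonal matrix without non-zero eigenvalue on an invariant subspace -/
theorem diag_zero (d : ι → K) (W : Submodule K (ι → K)) (hW : ∀ y ∈ W, diagonal d *ᵥ y ∈ W)
    (h : ∀ y ∈ W, ∀ c : K, diagonal d *ᵥ y = c • y → c • y = 0) : ∀ y ∈ W, diagonal d *ᵥ y = 0 := by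
  classical
  intro y
  induction hn : (Finset.univ.filter fun j => y j ≠ 0).card using Nat.strong_induction_on generalizing y with
  | _ n ih =>
  intro hy
  by_contra h0
  obtain ⟨j, hj⟩ := Function.ne_iff.1 h0
  rw [mulVec_diagonal, Pi.zero_apply] at hj
  have h1 : diagonal d *ᵥ (diagonal d *ᵥ y - d j • y) = 0 := by
    refine ih _ ?_ _ rfl (W.sub_mem (hW y hy) (W.smul_mem _ hy))
    rw [← hn]
    refine Finset.card_lt_card ⟨fun i hi => ?_, fun h2 => ?_⟩
    · rw [Finset.mem_filter] at hi ⊢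
      refine ⟨hi.1, fun h3 => hi.2 ?_⟩
      simp [mulVec_diagonal, h3]
    · have h3 := h2 (Finset.mem_filter.2 ⟨Finset.mem_univ j, right_ne_zero_of_mul hj⟩)
      simp [mulVec_diagonal] at h3
  rw [mulVec_sub, mulVec_smul, sub_eq_zero] at h1
  exact smul_ne_zero (left_ne_zero_of_mul hj) h0 (h _ (hW y hy) _ h1)

/-- generic linear combinations of commuting matrices -/
theorem generic [Infinite K] {X Y Z : Matrix ι ι K} (hc : X * Y = Y * X) (hZ : Z * Y * Y = Y) :
    ∃ c : K, ∀ v, (X + c • Y) *ᵥ v = 0 → Y *ᵥ v = 0 := by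
  obtain ⟨c, hc'⟩ := (Module.End.finite_hasEigenvalue (toLin' (Z * X))).infinite_compl.nonempty
  refine ⟨-c, fun v hv => by_contra fun h0 => hc' (Module.End.hasEigenvalue_of_hasEigenvector (x := Y *ᵥ v) ⟨?_, h0⟩)⟩
  rw [add_mulVec, smul_mulVec, neg_smul, add_neg_eq_zero] at hv
  rw [Module.End.mem_eigenspace_iff, toLin'_apply, mulVec_mulVec, Matrix.mul_assoc, hc, ← Matrix.mul_assoc, ← mulVec_mulVec, hv,
    mulVec_smul, mulVec_mulVec, hZ]

end lin

variable {D : ChevalleyDatum} {p : ℕ} [Fact p.Prime]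

/-- the matrix of `ad x` -/
noncomputable abbrev Am (x : D.Idx → KK p) : Matrix D.Idx D.Idx (KK p) := adv (adR D (KK p)) x

/-- the matrix of an element of the group -/
abbrev mt (g : YY D p) : Matrix D.Idx D.Idx (KK p) := ((g : GL D.Idx (KK p)) : Matrix D.Idx D.Idx (KK p))

/-- the eigenvalues of a toral vector -/
noncomputable def wt (h : D.Idx → KK p) : D.Idx → KK p :=
  Sum.elim (fun _ => 0) fun s => ∑ i : Fin D.rank, h (Sum.inl i) * (Columns.car D i s : KK p)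

theorem inList (hD : Typ D) : D ∈ [chevG2, chevB2, chevD4, chevF4, chevE6, chevE7, chevE8] := by
  rcases hD with rfl | rfl | rfl | rfl <;> simp

private noncomputable def _root_.Cfsg.Agent.LsF.fe3d5f2_0 : {f // @Cfsg.Agent.ChevalleyStructure.Columns.car = f} := ⟨_, by first | (delta Cfsg.Agent.ChevalleyStructure.Columns.car; rewrite [Cfsg.Agent.LsF.agetD_eq]; exact rfl) | exact rfl⟩
theorem car_one (hD : Typ D) : ∀ s : Fin D.nroots, ∃ i : Fin D.rank, Columns.car D i s = 1 ∨ Columns.car D i s = -1 := by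
  rcases hD with rfl | rfl | rfl | rfl <;> (refine of_decide_eq_true ?_; (try rewrite [Cfsg.Agent.LsF.fe3d5f2_0.2]); (try rewrite [Cfsg.Agent.LsF.ineg_pat]); (try rewrite [Cfsg.Agent.LsF.instIDecEq_eq]); (try rewrite [Cfsg.Agent.LsF.dOr_eq]); (try rewrite [Cfsg.Agent.LsF.dForallFin_eq]); (try rewrite [Cfsg.Agent.LsF.dExistsFin_eq]); (try rewrite [Cfsg.Agent.LsF.decide_eq]); decide +kernel)

theorem Am_tor {h : D.Idx → KK p} (hh : InT p h) : Am h = diagonal (wt h) := by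
  ext j k
  rw [Am, adv, Fintype.sum_sum_type, Finset.sum_eq_zero (f := fun s => h (Sum.inr s) • _) fun s _ => by rw [hh s, zero_smul],
    add_zero, Matrix.sum_apply]
  simp only [adR_def, JacMain.adA_inl, adH, Matrix.smul_apply, map_apply, diagonal_apply, smul_eq_mul]
  split_ifs with e
  · rcases j with j | j <;> simp [wt]
  · simp

theorem br_tor {h : D.Idx → KK p} (hh : InT p h) (v : D.Idx → KK p) : Am v *ᵥ h = -(Am h *ᵥ v) := by
  have h1 : ∀ j, adR D (KK p) j *ᵥ h = -(Am h *ᵥ Pi.single j 1) := by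
    intro j
    funext k
    rw [Am_tor hh, Pi.neg_apply, mulVec_diagonal, mulVec, dotProduct, Fintype.sum_sum_type,
      Finset.sum_eq_zero (f := fun s => _ * h (Sum.inr s)) fun s _ => by rw [hh s, mul_zero], add_zero]
    rcases j with j | j
    · rcases k with k | k
      · simp [adR_def, JacMain.adA_inl, adH, diagonal_apply, wt]
      · simp [adR_def, JacMain.adA_inl, adH]
    · simp only [adR_def, JacMain.adA_inr, map_apply, Ring.coefE_entry D j.val 1 j.2]
      rcases k with k | k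
      · simp [wt]
      · by_cases e : k = j
        · subst e
          simp [wt, Columns.car, mul_comm]
        · simp [e, Fin.val_inj]
  rw [Am, adv, Matrix.sum_mulVec]
  simp only [smul_mulVec, h1, smul_neg, Finset.sum_neg_distrib, ← mulVec_smul, ← mulVec_sum]
  congr 2
  funext k
  simp [Finset.sum_apply, Pi.single_apply]

theorem br_tor_tor {h h' : D.Idx → KK p} (hh : InT p h) (hh' : InT p h') : Am h *ᵥ h' = 0 := by
  funext k
  rw [Am_tor hh, mulVec_diagonal]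
  rcases k with k | k
  · exact zero_mul _
  · rw [hh' k, mul_zero]
    rfl

/-- `C_L(t) = t` -/
theorem inT_of (hD : Typ D) {v : D.Idx → KK p} (h : ∀ t, InT p t → Am t *ᵥ v = 0) : InT p v := by
  intro s
  obtain ⟨i, hi⟩ := car_one hD s
  have h1 : InT p (Pi.single (Sum.inl i) 1 : D.Idx → KK p) := fun s => Pi.single_eq_of_ne Sum.inr_ne_inl _
  have h2 := congrFun (h _ h1) (Sum.inr s)
  rw [Am_tor h1, mulVec_diagonal] at h2
  rcases hi with hi | hi <;> simpa [wt, Pi.single_apply, hi] using h2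

theorem mt_inv_mul (g : YY D p) : mt g⁻¹ * mt g = 1 := Units.inv_mul _

theorem mt_mul_inv (g : YY D p) : mt g * mt g⁻¹ = 1 := Units.mul_inv _

theorem mt_Am (hD : Typ D) (g : YY D p) (v : D.Idx → KK p) : mt g * Am v = Am (ad D p g v) * mt g :=
  JacAll.group_mul_adv D (inList hD) (KK p) g g.2 v

/-- the group acts by automorphisms -/
theorem ad_br (hD : Typ D) (g : YY D p) (x y : D.Idx → KK p) : ad D p g (Am x *ᵥ y) = Am (ad D p g x) *ᵥ ad D p g y := by
  rw [ad_apply, ad_apply p g y, mulVec_mulVec, mulVec_mulVec, mt_Am hD]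

theorem ad_inj (g : YY D p) : Function.Injective (ad D p g) := (adE g).injective

theorem ad_zero {g : YY D p} {v : D.Idx → KK p} (h : ad D p g v = 0) : v = 0 := ad_inj g (h.trans (map_zero _).symm)

/-- semisimple vectors -/
def SS (x : D.Idx → KK p) : Prop := ∃ g : YY D p, InT p (ad D p g x)

theorem SS.anti (hD : Typ D) {x : D.Idx → KK p} (h : SS x) (v : D.Idx → KK p) : Am v *ᵥ x = -(Am x *ᵥ v) := by
  obtain ⟨g, hg⟩ := h
  refine ad_inj g ?_
  rw [map_neg, ad_br hD, ad_br hD, br_tor hg]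

theorem SS.self (hD : Typ D) {x : D.Idx → KK p} (h : SS x) : Am x *ᵥ x = 0 := by
  obtain ⟨g, hg⟩ := h
  exact ad_zero (g := g) (by rw [ad_br hD, br_tor_tor hg hg])

theorem SS.pinv (hD : Typ D) {x : D.Idx → KK p} (h : SS x) : ∃ Z, Z * Am x * Am x = Am x := by
  obtain ⟨g, hg⟩ := h
  have h1 : Am x = mt g⁻¹ * diagonal (wt (ad D p g x)) * mt g := by
    rw [← Am_tor hg, Matrix.mul_assoc, ← mt_Am hD, ← Matrix.mul_assoc, mt_inv_mul, Matrix.one_mul]
  refine ⟨mt g⁻¹ * diagonal (fun j => (wt (ad D p g x) j)⁻¹) * mt g, ?_⟩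
  have h2 : ∀ A B : Matrix D.Idx D.Idx (KK p), mt g⁻¹ * A * mt g * (mt g⁻¹ * B * mt g) = mt g⁻¹ * (A * B) * mt g := fun A B => by
    simp only [Matrix.mul_assoc]
    rw [← Matrix.mul_assoc (mt g), mt_mul_inv, Matrix.one_mul]
  rw [h1, h2, h2, diagonal_mul_diagonal, diagonal_mul_diagonal]
  congr 3
  funext j
  by_cases h0 : wt (ad D p g x) j = 0
  · rw [h0, mul_zero]
  · rw [inv_mul_cancel₀ h0, one_mul]

theorem SS.sq (hD : Typ D) {x v : D.Idx → KK p} (h : SS x) (hv : Am x *ᵥ (Am x *ᵥ v) = 0) : Am x *ᵥ v = 0 := by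
  obtain ⟨Z, hZ⟩ := h.pinv hD
  rw [← hZ, ← mulVec_mulVec, ← mulVec_mulVec, hv, mulVec_zero]

/-- a subalgebra of semisimple vectors is abelian -/
theorem abelian (hD : Typ D) {W : Submodule (KK p) (D.Idx → KK p)} (hb : ∀ x ∈ W, ∀ y ∈ W, Am x *ᵥ y ∈ W)
    (hs : ∀ x ∈ W, SS x) {x y : D.Idx → KK p} (hx : x ∈ W) (hy : y ∈ W) : Am x *ᵥ y = 0 := by
  obtain ⟨g, hg⟩ := hs x hx
  have h1 : ∀ z, diagonal (wt (ad D p g x)) *ᵥ ad D p g z = ad D p g (Am x *ᵥ z) := fun z => by rw [ad_br hD, Am_tor hg]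
  refine ad_zero (g := g) ?_
  rw [← h1]
  refine diag_zero _ (W.map (ad D p g)) ?_ ?_ _ ⟨y, hy, rfl⟩
  · rintro _ ⟨z, hz, rfl⟩
    exact ⟨_, hb x hx z hz, (h1 z).symm⟩
  · rintro _ ⟨z, hz, rfl⟩ c hc
    rw [h1, ← map_smul] at hc
    have h2 := ad_inj g hc
    have h3 : Am z *ᵥ x = -(c • z) := by rw [(hs x hx).anti hD, h2]
    have h4 := (hs z hz).sq hD (v := x) (by rw [h3, mulVec_neg, mulVec_smul, (hs z hz).self hD, smul_zero, neg_zero])
    rw [← map_smul, neg_eq_zero.1 (h3.symm.trans h4), map_zero]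

/-- **a subalgebra of semisimple vectors is conjugate into the Cartan subalgebra** -/
theorem toral (hD : Typ D) {W : Submodule (KK p) (D.Idx → KK p)} (hb : ∀ x ∈ W, ∀ y ∈ W, Am x *ᵥ y ∈ W)
    (hs : ∀ x ∈ W, SS x) : ∃ g : YY D p, ∀ v ∈ W, InT p (ad D p g v) := by
  obtain ⟨x, hx, hmin⟩ := (measure fun x : D.Idx → KK p => finrank (KK p) (LinearMap.ker (toLin' (Am x)))).wf.has_min
    (W : Set (D.Idx → KK p)) ⟨0, W.zero_mem⟩
  obtain ⟨g, hg⟩ := hs x hx
  refine ⟨g, fun y hy => inT_of hD fun t ht => ?_⟩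
  obtain ⟨Z, hZ⟩ := (hs y hy).pinv hD
  have h1 : Am x * Am y = Am y * Am x := by
    have h2 := JacAll.jacR_all D (inList hD) (KK p) x y
    rw [abelian hD hb hs hx hy, adv_zero] at h2
    exact (sub_eq_zero.1 h2.symm)
  obtain ⟨c, hc⟩ := generic h1 hZ
  rw [← adv_smul, ← adv_add] at hc
  have h2 : LinearMap.ker (toLin' (Am (x + c • y))) ≤ LinearMap.ker (toLin' (Am x)) := fun v hv => by
    rw [LinearMap.mem_ker, toLin'_apply] at hv ⊢
    have h3 := hc v hv
    rwa [Am, adv_add, adv_smul, add_mulVec, smul_mulVec, h3, smul_zero, add_zero] at hv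
  have h3 := Submodule.eq_of_le_of_finrank_le h2 (not_lt.1 (hmin _ (W.add_mem hx (W.smul_mem c hy))))
  have h4 : ad D p g (ad D p g⁻¹ t) = t := by rw [← ad_mul, mul_inv_cancel, ad_one]
  have h5 : ad D p g⁻¹ t ∈ LinearMap.ker (toLin' (Am x)) := by
    rw [LinearMap.mem_ker, toLin'_apply]
    exact ad_zero (g := g) (by rw [ad_br hD, h4, br_tor_tor hg ht])
  have h6 := congrArg (ad D p g) (hc _ (h3.ge h5))
  rw [ad_br hD, h4, map_zero, br_tor ht] at h6
  exact neg_eq_zero.1 h6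

theorem br_Fx (hD : Typ D) {Z : Set (YY D p)} {x y : D.Idx → KK p} (hx : x ∈ Fx p Z) (hy : y ∈ Fx p Z) :
    Am x *ᵥ y ∈ Fx p Z := fun z hz => by rw [ad_br hD, hx z hz, hy z hz]

end Tor

/-- **[TOR]** -/
theorem boxTor : BoxTor := fun _ _ _ _ hD _ _ _ h => Tor.toral hD (fun _ hx _ hy => Tor.br_Fx hD hx hy) h

end Cfsg.Agent.N2.Ex.K

private theorem dce_d6c9246ec3e0 : _root_.True := by
  try have : _root_.True := by simp only [_root_.Cfsg.Agent.N2.Ex.K.Tor.wt.eq_1]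
  try have : _root_.True := by simp only [_root_.Cfsg.Agent.N2.Ex.K.Tor.Am.eq_1]
  try have : _root_.True := by simp only [_root_.Cfsg.Agent.ChevalleyStructure.Columns.car.eq_1]
  try have : _root_.True := by simp only [_root_.Cfsg.Agent.ChevalleyStructure.JacMain.adH.eq_1]
  exact _root_.True.intro
end

-- part: N2/Ex/Cb/TabB
section
prune_inst 0x10000000000000
set_option linter.all false
open scoped Cfsg.Agent.FastGrp

/-- decoders of the packed data (elaboration time only) -/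
private noncomputable def pk61d (b S i : Nat) : Nat := Nat.mod (Nat.shiftRight S (Nat.mul b i)) (Nat.shiftLeft (nat_lit 1) b)
private noncomputable def pk61c {α : Type} (t : Nat) (a : α) (f : Nat → α) : α := Nat.rec a (fun k _ => f k) t
private noncomputable def pk61f {α : Type} (t : Nat) (f : Nat → α) : α := Nat.rec (f Nat.zero) (fun k _ => f (Nat.succ k)) t
private noncomputable def pk61l {α : Type} (f : Nat → α) (s e : Nat) (tl : List α) : List α :=
  pk61f e fun e => Nat.rec tl (fun k ih => List.cons (pk61f (Nat.sub e (Nat.succ k)) f) ih) (Nat.sub e s)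
private noncomputable def pk61o {α : Type} (O : (n : Nat) → OfNat α n → α) (I : (n : Nat) → OfNat α n) (t : Nat) : α :=
  pk61c t (O (nat_lit 0) (I (nat_lit 0))) fun k => O (Nat.succ k) (I (Nat.succ k))

-- part: N2/Ex/Cb/Tal
section
/-!
# N2, exceptional groups: counting classes of roots, list level (helper37)
-/

set_option autoImplicit false

namespace Cfsg.Agent.N2.Ex.Cb

/-- the code of the digits selected by a mask -/
def cd : List ℕ → List ℕ → ℕ
  | m :: ms, x :: xs => m * x + 16 * cd ms xs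
  | [], _ => 0
  | _ :: _, [] => 0

example := @cd.eq_def

/-- insertion into a table of multiplicities -/
def ins (x : ℕ) : List (ℕ × ℕ) → List (ℕ × ℕ)
  | [] => [(x, 1)]
  | e :: r => bif Nat.beq x e.1 then (e.1, e.2 + 1) :: r else e :: ins x r

example := @ins.eq_def

/-- the table of multiplicities -/
def tally : List ℕ → List (ℕ × ℕ)
  | [] => []
  | x :: r => ins x (tally r)

example := @tally.eq_def

/-- the gcd of the numbers of classes of the same size -/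
def gg (K : List ℕ) : ℕ := ((tally ((tally K).map Prod.snd)).map Prod.snd).foldr Nat.gcd 0

/-- all masks -/
def masks : ℕ → List (List ℕ)
  | 0 => [[]]
  | n + 1 => (masks n).map (0 :: ·) ++ (masks n).map (1 :: ·)

example := @masks.eq_def

/-- the keys of the roots outside the subsystem -/
def keys (T : List (List ℕ)) (h0 h1 m : List ℕ) : List ℕ :=
  (T.map (cd m)).filter fun y => !(Nat.beq y (cd m h0) || Nat.beq y (cd m h1))

/-- membership in the table -/
def memT (a b c : ℕ) (tab : List (ℕ × ℕ × ℕ)) : Bool :=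
  tab.any fun e => Nat.beq a e.1 && (Nat.beq b e.2.1 && Nat.beq c e.2.2)

/-- the check for one mask -/
def chk (T : List (List ℕ)) (h0 h1 : List ℕ) (z : Bool) (N l : ℕ) (tab : List (ℕ × ℕ × ℕ)) (m : List ℕ) : Bool :=
  (keys T h0 h1 m).isEmpty || memT (gg (keys T h0 h1 m)) (N - (keys T h0 h1 m).length) (bif z then l else m.sum) tab

theorem memT_spec {a b c : ℕ} {tab : List (ℕ × ℕ × ℕ)} (h : memT a b c tab = true) : (a, b, c) ∈ tab := by
  obtain ⟨e, he, h1⟩ := List.any_eq_true.1 h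
  simp only [Bool.and_eq_true, Nat.beq_eq] at h1
  obtain ⟨rfl, rfl, rfl⟩ := h1
  exact he

theorem mem_ins (x y : ℕ) (T : List (ℕ × ℕ)) : y ∈ (ins x T).map Prod.fst ↔ y = x ∨ y ∈ T.map Prod.fst := by
  induction T with
  | nil => simp [ins]
  | cons e r ih =>
    rw [ins]
    cases h : Nat.beq x e.1
    · simp only [cond_false, List.map_cons, List.mem_cons, ih]
      tauto
    · have h1 : x = e.1 := Nat.eq_of_beq_eq_true h
      simp only [cond_true, List.map_cons, List.mem_cons, h1]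
      tauto

theorem nodup_ins (x : ℕ) {T : List (ℕ × ℕ)} (hT : (T.map Prod.fst).Nodup) : ((ins x T).map Prod.fst).Nodup := by
  induction T with
  | nil => simp [ins]
  | cons e r ih =>
    rw [ins]
    rw [List.map_cons, List.nodup_cons] at hT
    cases h : Nat.beq x e.1
    · rw [cond_false, List.map_cons, List.nodup_cons, mem_ins]
      refine ⟨?_, ih hT.2⟩
      rintro (h1 | h1)
      · exact Nat.ne_of_beq_eq_false h h1.symm
      · exact hT.1 h1
    · rw [cond_true, List.map_cons, List.nodup_cons]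
      exact hT

theorem val_ins (x : ℕ) (f : ℕ → ℕ) {T : List (ℕ × ℕ)} (hT : (T.map Prod.fst).Nodup) (h1 : ∀ e ∈ T, e.2 = f e.1)
    (h2 : x ∉ T.map Prod.fst → f x = 0) : ∀ e ∈ ins x T, e.2 = f e.1 + if x = e.1 then 1 else 0 := by
  induction T with
  | nil =>
    intro e he
    rw [ins, List.mem_singleton] at he
    subst he
    simp [h2 (by simp)]
  | cons a r ih =>
    intro e he
    rw [ins] at he
    rw [List.map_cons, List.nodup_cons] at hT
    cases h : Nat.beq x a.1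
    · have h3 := Nat.ne_of_beq_eq_false h
      rw [h, cond_false, List.mem_cons] at he
      rcases he with rfl | he
      · rw [if_neg h3, add_zero]
        exact h1 _ List.mem_cons_self
      · refine ih hT.2 (fun e he => h1 e (List.mem_cons_of_mem _ he)) (fun h4 => h2 ?_) e he
        rw [List.map_cons, List.mem_cons]
        rintro (h5 | h5)
        exacts [h3 h5, h4 h5]
    · have h3 : x = a.1 := Nat.eq_of_beq_eq_true h
      rw [h, cond_true, List.mem_cons] at he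
      rcases he with rfl | he
      · rw [if_pos h3, h1 a List.mem_cons_self]
      · rw [if_neg, add_zero]
        · exact h1 e (List.mem_cons_of_mem _ he)
        · intro h4
          exact hT.1 (by rw [← h3, h4]; exact List.mem_map_of_mem he)

theorem tally_spec (K : List ℕ) : ((tally K).map Prod.fst).Nodup ∧ (∀ y, y ∈ (tally K).map Prod.fst ↔ y ∈ K) ∧
    ∀ e ∈ tally K, e.2 = K.count e.1 := by
  induction K with
  | nil => simp [tally]
  | cons x r ih =>
    obtain ⟨h1, h2, h3⟩ := ih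
    rw [tally]
    refine ⟨nodup_ins x h1, fun y => by rw [mem_ins, h2, List.mem_cons], fun e he => ?_⟩
    rw [val_ins x (fun y => r.count y) h1 h3 (fun h => List.count_eq_zero.2 fun h4 => h ((h2 x).2 h4)) e he,
      List.count_cons]
    simp

theorem count_tally (K : List ℕ) (s : ℕ) :
    ((tally K).map Prod.snd).count s = (K.toFinset.filter fun x => K.count x = s).card := by
  obtain ⟨h1, h2, h3⟩ := tally_spec K
  have h4 : (tally K).map Prod.snd = ((tally K).map Prod.fst).map fun x => K.count x := by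
    rw [List.map_map]
    exact List.map_congr_left h3
  have h5 : K.toFinset = ((tally K).map Prod.fst).toFinset := by
    ext y
    rw [List.mem_toFinset, List.mem_toFinset, h2]
  rw [h4, h5, List.count, List.countP_map, List.countP_eq_length_filter, ← List.toFinset_card_of_nodup (h1.filter _),
    List.toFinset_filter]
  congr 1
  ext y
  simp

theorem dvd_gg {m : ℕ} {K : List ℕ} (h : ∀ s, m ∣ (K.toFinset.filter fun x => K.count x = s).card) : m ∣ gg K := by
  have h1 : ∀ L : List ℕ, (∀ a ∈ L, m ∣ a) → m ∣ L.foldr Nat.gcd 0 := fun L hL => by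
    induction L with
    | nil => exact dvd_zero m
    | cons a L ih => exact Nat.dvd_gcd (hL a List.mem_cons_self) (ih fun b hb => hL b (List.mem_cons_of_mem _ hb))
  refine h1 _ fun a ha => ?_
  obtain ⟨e, he, rfl⟩ := List.mem_map.1 ha
  rw [(tally_spec _).2.2 e he, count_tally]
  exact h _

theorem mem_masks {l : ℕ} (f : Fin l → ℕ) (hf : ∀ i, f i = 0 ∨ f i = 1) : List.ofFn f ∈ masks l := by
  induction l with
  | zero => simp [masks]
  | succ n ih =>
    rw [List.ofFn_succ, masks, List.mem_append]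
    have h1 := ih (fun i => f i.succ) fun i => hf _
    rcases hf 0 with h | h <;> rw [h]
    · exact Or.inl (List.mem_map_of_mem h1)
    · exact Or.inr (List.mem_map_of_mem h1)

theorem cd_eq_iff {l : ℕ} (f x y : Fin l → ℕ) (hf : ∀ i, f i = 0 ∨ f i = 1) (hx : ∀ i, x i < 16) (hy : ∀ i, y i < 16) :
    cd (List.ofFn f) (List.ofFn x) = cd (List.ofFn f) (List.ofFn y) ↔ ∀ i, f i ≠ 0 → x i = y i := by
  induction l with
  | zero => simp
  | succ n ih =>
    rw [List.ofFn_succ, List.ofFn_succ, List.ofFn_succ, cd, cd, Fin.forall_fin_succ,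
      ← ih (fun i => f i.succ) (fun i => x i.succ) (fun i => y i.succ) (fun i => hf _) (fun i => hx _) fun i => hy _]
    have h1 := hx 0
    have h2 := hy 0
    rcases hf 0 with h | h <;> rw [h] <;> omega

/-- **The product trick.** -/
theorem core {ι F : Type} [Fintype ι] [Field F] (P : ι → Prop) [DecidablePred P] (ρ : ι ≃ ι) (key : ι → ℕ) (β : ι → F)
    (k : F) (hP : ∀ i, P (ρ i) ↔ P i) (h0 : ∀ i, P i → β i ≠ 0) (hβ : ∀ i, β (ρ i) = k * β i)
    (h1 : ∀ i j, P i → P j → (key (ρ i) = key (ρ j) ↔ key i = key j))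
    (h2 : ∀ i j, P i → P j → key i = key j → β i = β j) (s : ℕ) :
    k ^ (((Finset.univ.filter P).image key).filter
      fun x => (Finset.univ.filter fun j => P j ∧ key j = x).card = s).card = 1 := by
  classical
  set X := ((Finset.univ.filter P).image key).filter fun x => (Finset.univ.filter fun j => P j ∧ key j = x).card = s
    with hX
  have h3 : ∀ x : X, ∃ i, P i ∧ key i = x := fun x => by
    obtain ⟨i, hi, h⟩ := Finset.mem_image.1 (Finset.mem_filter.1 x.2).1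
    exact ⟨i, (Finset.mem_filter.1 hi).2, h⟩
  choose r hr1 hr2 using h3
  have h4 : ∀ x : X, key (ρ (r x)) ∈ X := fun x => by
    refine Finset.mem_filter.2 ⟨Finset.mem_image.2 ⟨ρ (r x), Finset.mem_filter.2 ⟨Finset.mem_univ _, (hP _).2 (hr1 x)⟩, rfl⟩, ?_⟩
    rw [← (Finset.mem_filter.1 x.2).2]
    symm
    refine Finset.card_equiv ρ fun j => ?_
    simp only [Finset.mem_filter, Finset.mem_univ, true_and, hP]
    exact and_congr_right fun hj => by rw [h1 _ _ hj (hr1 x), hr2]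
  let π : X → X := fun x => ⟨_, h4 x⟩
  have h5 : Function.Injective π := fun x y h => Subtype.ext (by
    rw [← hr2 x, ← hr2 y]
    exact (h1 _ _ (hr1 x) (hr1 y)).1 (congrArg Subtype.val h))
  have h6 : ∏ x : X, β (r (π x)) = ∏ x : X, β (r x) :=
    Function.Bijective.prod_comp (Finite.injective_iff_bijective.1 h5) fun x => β (r x)
  have h7 : ∀ x : X, β (r (π x)) = k * β (r x) := fun x => by
    rw [← hβ]
    exact h2 _ _ (hr1 _) ((hP _).2 (hr1 x)) (hr2 _)
  simp only [h7, Finset.prod_mul_distrib, Finset.prod_const, Finset.card_univ, Fintype.card_coe] at h6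
  exact (mul_eq_right₀ (Finset.prod_ne_zero_iff.2 fun x _ => h0 _ (hr1 x))).1 h6

/-- the list form -/
theorem core_list {N : ℕ} {F : Type} [Field F] (q : ℕ → Bool) (ρ : Fin N ≃ Fin N) (key : Fin N → ℕ) (β : Fin N → F)
    (k : F) (hP : ∀ i, q (key (ρ i)) ↔ q (key i)) (h0 : ∀ i, q (key i) → β i ≠ 0) (hβ : ∀ i, β (ρ i) = k * β i)
    (h1 : ∀ i j, q (key i) → q (key j) → (key (ρ i) = key (ρ j) ↔ key i = key j))
    (h2 : ∀ i j, q (key i) → q (key j) → key i = key j → β i = β j) :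
    orderOf k ∣ gg ((List.ofFn key).filter q) := by
  refine dvd_gg fun s => orderOf_dvd_of_pow_eq_one ?_
  rw [← core (fun i => q (key i) = true) ρ key β k hP h0 hβ h1 h2 s]
  congr 2
  ext x
  simp only [Finset.mem_filter, List.mem_toFinset, List.mem_filter, List.mem_ofFn, Finset.mem_image, Finset.mem_univ,
    true_and]
  refine and_congr ⟨fun ⟨⟨i, h⟩, h'⟩ => ⟨i, h ▸ h', h⟩, fun ⟨i, h, h'⟩ => ⟨⟨i, h'⟩, h' ▸ h⟩⟩ (Eq.congr_left ?_)
  rw [List.ofFn_eq_map, List.count, List.countP_filter, List.countP_map, List.countP_eq_length_filter,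
    ← List.toFinset_card_of_nodup ((List.nodup_finRange N).filter _), List.toFinset_filter]
  congr 1
  ext j
  simp [and_comm]

theorem length_filter_ofFn {N : ℕ} (q : ℕ → Bool) (key : Fin N → ℕ) :
    ((List.ofFn key).filter q).length = (Finset.univ.filter fun i => q (key i) = true).card := by
  rw [List.ofFn_eq_map, ← List.countP_eq_length_filter, List.countP_map, List.countP_eq_length_filter,
    ← List.toFinset_card_of_nodup ((List.nodup_finRange N).filter _), List.toFinset_filter]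
  congr 1
  ext j
  simp

end Cfsg.Agent.N2.Ex.Cb
end

-- part: N2/Ex/Cb/Chk
section
/-!
# N2, exceptional groups: the check for a root datum (helper37)
-/

set_option autoImplicit false

namespace Cfsg.Agent.N2.Ex.Cb

open Cfsg Cfsg.Lie Cfsg.Agent.Nodes.RGDChev Cfsg.Agent.H931.KC

/-- shifted digits -/
def dg {l : ℕ} (x : Fin l → ℤ) : List ℕ := List.ofFn fun i => (x i + 8).toNat

/-- the highest root, if the node `0` belongs to the subsystem -/
def hz (D : ChevalleyDatum) (l : ℕ) (z : Bool) : Fin l → ℤ := bif z then hr D l else 0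

/-- the normal form of a root -/
def nrm (D : ChevalleyDatum) (l : ℕ) (z : Bool) (a : Fin l → ℤ) : Fin l → ℤ :=
  if ∀ i, 0 ≤ a i then a else a + hz D l z

/-- the table of the normal forms -/
def tb (D : ChevalleyDatum) (l : ℕ) (z : Bool) : List (List ℕ) :=
  List.ofFn fun s : Fin D.nroots => dg (nrm D l z (vec D l s))

/-- the check for all masks -/
def OK (D : ChevalleyDatum) (l : ℕ) (tab : List (ℕ × ℕ × ℕ)) : Prop :=
  (∀ i, hr D l i ≤ 7) ∧
    ∀ z : Bool, ∀ m ∈ masks l, chk (tb D l z) (dg (0 : Fin l → ℤ)) (dg (hz D l z)) z D.nroots l tab m = true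

theorem ok_of {D : ChevalleyDatum} {l N : ℕ} {tab : List (ℕ × ℕ × ℕ)} {T0 T1 : List (List ℕ)} {h0 h1 : List ℕ}
    (e : (∀ i, hr D l i ≤ 7) ∧ tb D l false = T0 ∧ tb D l true = T1 ∧ dg (0 : Fin l → ℤ) = h0 ∧ dg (hz D l false) = h0 ∧
      dg (hz D l true) = h1 ∧ D.nroots = N)
    (c0 : (masks l).all (chk T0 h0 h0 false N l tab) = true) (c1 : (masks l).all (chk T1 h0 h1 true N l tab) = true) :
    OK D l tab := by
  obtain ⟨e0, rfl, rfl, rfl, e1, rfl, rfl⟩ := e
  refine ⟨e0, fun z m hm => ?_⟩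
  cases z
  · rw [e1]
    exact List.all_eq_true.1 c0 m hm
  · exact List.all_eq_true.1 c1 m hm

/-- from triples to pairs -/
def Red (tab : List (ℕ × ℕ × ℕ)) (tp : List (ℕ × ℕ)) : Prop :=
  ∀ e ∈ tab, e.1 ≠ 0 ∧ ∀ m ∈ List.range (e.1 + 1), m ∣ e.1 → m.totient ≤ e.2.2 → ∃ f ∈ tp, m ∣ f.1 ∧ e.2.1 = f.2

instance decRed (tab : List (ℕ × ℕ × ℕ)) (tp : List (ℕ × ℕ)) : Decidable (Red tab tp) := by
  unfold Red
  infer_instance

end Cfsg.Agent.N2.Ex.Cb
end

-- part: N2/Ex/Cb/TabB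
section
/-!
# N2, exceptional groups: the tables of classes of roots, `E₈` (helper37)
-/

set_option autoImplicit false
set_option maxRecDepth 100000

namespace Cfsg.Agent.N2.Ex.Cb

open Cfsg Cfsg.Lie Cfsg.Agent.H931.KC

/-- normal forms -/
noncomputable def t0E8 : List (List ℕ) :=
  (by
  refine (?fq9001 : (fun (On : (n : Nat) → OfNat Nat n → Nat) (In : (n : Nat) → OfNat Nat n) => ((pk61l (fun i1 => (pk61l (fun i2 => (pk61o On In (pk61d (nat_lit 4) 
    (nat_lit 0xabcdecba9bcdecba9acdecba9abdecba9abcecba9abcdcba9abcdbba9abcdcaa9abcdbaa9abccbaa9abbcbaa9aabcbaa99abcbaa89abcbaa9abcdbb99abcdba99abccba99abbcba99aabcba999abcba989abcba99abccaa99abbcaa99aabcaa999abcaa989abcaa99abbbaa99aabbaa999abbaa989abbaa99aaabaa999aabaa989aabaa9999abaa9899abaa9889abaa99abbba999aabba9999abba9989abba999aaaba9999aaba9989aaba99999aba99899aba99889aba999aaaaa9999aaaa9989aaaa99999aaa99899aaa99889aaa999999aa998999aa998899aa998889aa999aaaa99999aaa99989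aaa999999aa999899aa999889aa9999999a9998999a9998899a9998889a9999999999989999999889999998889999988889999999999898999998988999989888999898888998988888989888888899aaaa99899aaa99889aaa998999aa998899aa998889aa9989999a9988999a9988899a9988889a998999999988999999888999998888999988888999899999898899998988899989888899898888898988888889899999988899999888899998888899988888899888888898899999888899998888899988888899888888898889999888889998888889988888889888899988888899888888898888899888888898888889888888878888888878888887788888888788888877888887778888888878888887788888777888877778888888878888887788888777888877778887777788888888788888877888887778888777788877777887777778888888878888878788887787888777878877778787777787888887778888777788877777887777778777777788887677888776778877767787777677888766778877667787776677887666778776667787666677888888887888887878888778788877787887777878777778777777787888877778887777788777777877777777777777788876777887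7677787776777777767778876677787766777777667778766677777666777766667778887667788776677877766777777667788766677877666777776667787666677776666777666667788765677877656777776567787665677776656777666567787655677776556777665567776555677887656678776566777765667876656677766566776665667876556677765566776655667765556678765466777654667766546677655466776544667876545677765456776654567765545677654456776543567765435578765456677654566766545667655456676544566765435667654346676543556765434567654245676532456764324567543245665432456) i2))) (Nat.mul (nat_lit 8) i1) (Nat.mul (nat_lit 8) (Nat.succ i1)) List.nil)) (nat_lit 0) (nat_lit 240) List.nil) : List (List ℕ)))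
    = ?xq9001 → (List (List ℕ))) ?hq9001; (case hq9001 => (set_option maxRecDepth 1000000 in conv => lhs; reduce)); intro _; exact ?xq9001 (@OfNat.ofNat Nat) instOfNatNat : List (List ℕ))

/-- normal forms -/
noncomputable def t1E8 : List (List ℕ) :=
  (by
  refine (?fq9002 : ((pk61l (fun i1 => (pk61l (fun i2 => (Nat.add (nat_lit 8) (pk61d (nat_lit 3) 
    (nat_lit 0x4e5d1a2e5d1a2a5d1a29dd1a29cd1a29cb1a29cada29cb1229cad229c8d229b8d22938d22538d20538d229cad929cad129c8d129b8d12938d12538d10538d129c89129b89129389125389105389129b69129369125369105369129269125269105269124a69104a69100a69129b68929368925368905368929268925268905268924a68904a68900a68929248925248905248924a48904a48900a48924948904948900948900148929244925244905244924a44904a44900a44924944904944900944900144924924904924900924900124900024924924104924100924100124100024100004100000129244825244805244824a44804a44800a44824944804944800944800144824924804924800924800124800024824920804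92080092080012080002080000082492400492400092400012400002400000402492000492000092000012000002002490000490000090000010002480000480000080002400000400002000002e5d1a4a5d1a2a5d1a4ddd1a49dd1a29dd1a4e4d1a4dcd1a49cd1a29cd1a4e5b1a4e4b1a4dcb1a49cb1a29cb1a4e5cda4e5ada4e4ada4dcada49cada29cada4e5d124e5b124e4b124dcb1249cb1229cb124e5ad24e4ad24dcad249cad229cad24e48d24dc8d249c8d229c8d24db8d249b8d229b8d24938d22938d22538d24e5d194e5cd94e5ad94e4ad94dcad949cad929cad94e5ad14e4ad14dcad149cad129cad14e48d14dc8d149c8d129c8d14db8d149b8d129b8d14938d12938d12538d14e48914dc89149c89129c8914db89149b89129b8914938912938912538914db69149b69129b69149369129369125369149269129269125269124a6914db68949b68929b68949368929368925368949268929268925268924a68949248929248925248924a48924948949244929244925244924a44924944924924924924149244829244825244824a448249448249248249208249240249200249000248000240000200000000000) i2))) (Nat.mul (nat_lit 8) i1) (Nat.mul (nat_lit 8) (Nat.succ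 i1)) List.nil)) (nat_lit 0) (nat_lit 240) List.nil) : List (List ℕ))
    = ?xq9002 → (List (List ℕ))) ?hq9002; (case hq9002 => (set_option maxRecDepth 1000000 in conv => lhs; reduce)); intro _; exact ?xq9002 : List (List ℕ))

/-- the triples (gcd, number of roots, rank bound) -/
noncomputable def t3E8 : List (ℕ × ℕ × ℕ) :=
  (by
  refine (?fq9003 : (fun (On : (n : Nat) → OfNat Nat n → Nat) (In : (n : Nat) → OfNat Nat n) => ((pk61l (fun i1 => (_root_.Prod.mk (pk61o On In (pk61d (nat_lit 8) 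
    (nat_lit 0xf01812120e0e0c0c0a0a080806060604040404040404040202020202020202020202020202020202020202020202020202020202020202020202020202020202020202020202020101010101010101010101010101010101010101) i1)) (_root_.Prod.mk (pk61o On In (pk61d (nat_lit 8) 
    (nat_lit 0x18060602020c0c14140808481e1e3c281818101004047e544e4a4a4838382e2e2c2c2a2a28242020201e1e1c1c1a1a1a181816161414121210100e0e0e0c0c0c0a0a0808060680703e3a38342c262422201c1a181612100e0a08) i1)) (pk61o On In (pk61d (nat_lit 4) 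
    (nat_lit 0x8486878484842822882828611881881818182388218381832828382838384385384858588888888888888888888) i1))))) (nat_lit 0) (nat_lit 91) List.nil) : List (ℕ × ℕ × ℕ)))
    = ?xq9003 → (List (ℕ × ℕ × ℕ))) ?hq9003; (case hq9003 => (set_option maxRecDepth 1000000 in conv => lhs; reduce)); intro _; exact ?xq9003 (@OfNat.ofNat Nat) instOfNatNat : List (ℕ × ℕ × ℕ))

/-- the pairs (multiple of the order, number of roots) -/
def tpE8 : List (ℕ × ℕ) :=
  (by
  refine (?fq9004 : ((pk61l (fun i1 => (_root_.Prod.mk (pk61d (nat_lit 5) 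
    (nat_lit 0xf62928398c5210631084208421084210842108421042108421) i1) (pk61d (nat_lit 8) 
    (nat_lit 0x60002180c141808481e3c2810047e544e4a382e2c2a24201c1a16120e0a80703e3a342622) i1))) (nat_lit 0) (nat_lit 40) List.nil) : List (ℕ × ℕ))
    = ?xq9004 → (List (ℕ × ℕ))) ?hq9004; (case hq9004 => (set_option maxRecDepth 1000000 in conv => lhs; reduce)); intro _; exact ?xq9004 : List (ℕ × ℕ))

theorem eE8 : (∀ i, hr chevE8 8 i ≤ 7) ∧ tb chevE8 8 false = t0E8 ∧ tb chevE8 8 true = t1E8 ∧ dg (0 : Fin 8 → ℤ) = [8, 8, 8, 8, 8, 8, 8, 8] ∧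
    dg (hz chevE8 8 false) = [8, 8, 8, 8, 8, 8, 8, 8] ∧ dg (hz chevE8 8 true) = [10, 11, 12, 14, 13, 12, 11, 10] ∧ chevE8.nroots = 240 := by decide +kernel

theorem redE8 : Red t3E8 tpE8 := by decide +kernel

end Cfsg.Agent.N2.Ex.Cb
end

private theorem dce_daca26898584 : _root_.True := by
  try have : _root_.True := by simp only [_root_.Cfsg.Agent.N2.Ex.Cb.ins.eq_def]
  try have : _root_.True := by simp only [_root_.Cfsg.Agent.N2.Ex.Cb.cd.eq_2]
  try have : _root_.True := by simp only [_root_.Cfsg.Agent.N2.Ex.Cb.ins.eq_1]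
  try have : _root_.True := by simp only [_root_.Cfsg.Agent.N2.Ex.Cb.cd.eq_1]
  try have : _root_.True := by simp only [_root_.Cfsg.Agent.N2.Ex.Cb.masks.eq_2]
  try have : _root_.True := by simp only [_root_.Cfsg.Agent.N2.Ex.Cb.masks.eq_def]
  try have : _root_.True := by simp only [_root_.Cfsg.Agent.N2.Ex.Cb.masks.eq_1]
  try have : _root_.True := by simp only [_root_.Cfsg.Agent.N2.Ex.Cb.tally.eq_2]
  try have : _root_.True := by simp only [_root_.Cfsg.Agent.N2.Ex.Cb.ins.eq_2]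
  try have : _root_.True := by simp only [_root_.Cfsg.Agent.N2.Ex.Cb.cd.eq_def]
  try have : _root_.True := by simp only [_root_.Cfsg.Agent.N2.Ex.Cb.cd.eq_3]
  try have : _root_.True := by simp only [_root_.Cfsg.Agent.N2.Ex.Cb.tally.eq_1]
  try have : _root_.True := by simp only [_root_.Cfsg.Agent.N2.Ex.Cb.tally.eq_def]
  exact _root_.True.intro
end

-- part: N2/G2/Defs
section
set_option linter.all false

/-!
# N2 (S3519), the groups `G₂(q)` (`k = 1`) and `³D₄(q)` (`k = 3`): interface (helper9)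

Paper: `notes/N2/g2.md`.  `d x` is the dimension of the fixed space of `x` on the adjoint module (dimension `7 (k + 1)`).

* `Mod p k q T d` : the models; the sheets `ElA ElB ElL Lin Why U5` of facts and their boxes;
* `Cx`, `Loc`, `Sim`, `Mul` : the frame on `T` itself; `On` : statements over the sheet `Sh`;
* boxes `BoxLocO BoxLoc2 BoxMul BoxList`, `BoxSim P`.
-/

set_option autoImplicit false
set_option linter.unusedVariables false

namespace Cfsg.Agent.N2.G2

open Subgroup Cfsg Cfsg.Lie Cfsg.Agent.FP3 Cfsg.Agent.H316.U6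
open Cfsg.Agent.SB.Low (EA Nz Cz hpG2)

/-! ### numbers -/

/-- the order of the group -/
def ord (k q : ℕ) : ℕ :=
  if k = 1 then q ^ 6 * (q ^ 2 - 1) * (q ^ 6 - 1) else q ^ 12 * (q ^ 2 - 1) * (q ^ 6 - 1) * (q ^ 8 + q ^ 4 + 1)

/-- the largest order of a maximal torus -/
def tau (k q : ℕ) : ℕ := if k = 1 then (q + 1) ^ 2 else (q ^ 2 + q + 1) ^ 2

/-- the largest order of `N(T) / T` -/
def ww (k : ℕ) : ℕ := if k = 1 then 12 else 24

/-- the largest order of a centraliser of type `A₁` -/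
def cm (k q : ℕ) : ℕ := q * (q ^ 2 - 1) * (q ^ k + 1)

/-- the orders of the maximal tori -/
def Tor (k q n : ℕ) : Prop :=
  (k = 1 ∧ (n = (q - 1) ^ 2 ∨ n = (q + 1) ^ 2 ∨ n = q ^ 2 - 1 ∨ n = q ^ 2 + q + 1 ∨ n = q ^ 2 - q + 1)) ∨
  (k = 3 ∧ (n = (q ^ 3 - 1) * (q - 1) ∨ n = (q ^ 3 - 1) * (q + 1) ∨ n = (q ^ 3 + 1) * (q - 1) ∨ n = (q ^ 3 + 1) * (q + 1) ∨
    n = (q ^ 2 + q + 1) ^ 2 ∨ n = (q ^ 2 - q + 1) ^ 2 ∨ n = q ^ 4 - q ^ 2 + 1))

/-- the centralisers of type `A₁³ T₁`, `A₂ T₂` in `³D₄(q)` have order `m n` and a cyclic centre of order `m` -/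
def Bd (q m n : ℕ) : Prop :=
  ((m = q - 1 ∨ m = q + 1) ∧ n = q ^ 3 * (q ^ 6 - 1)) ∨ (m = q ^ 2 + q + 1 ∧ n = q ^ 3 * (q ^ 2 - 1) * (q ^ 3 - 1)) ∨
    (m = q ^ 2 - q + 1 ∧ n = q ^ 3 * (q ^ 2 - 1) * (q ^ 3 + 1))

/-! ### the models and the sheets -/

/-- the two models -/
def Mod (p : ℕ) [Fact p.Prime] (k q : ℕ) (T : Type) [Group T] (d : T → ℕ) : Prop :=
  (k = 1 ∧ 3 ≤ q ∧ (∃ m : MData hpG2 p q T, m.dd = 1 ∧ m.g = AddEquiv.refl _ ∧ ∀ x, d x = DS.Nt.dd p (m.ι x)) ∧
    ∃ (F : Type) (_ : Field F) (_ : Fintype F) (_ : CharP F p), Fintype.card F = q ∧ Nonempty (T ≃* chevG2.group F)) ∨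
  (k = 3 ∧ IsPrimePow q ∧ (∃ m : MData Nodes.RGDTwD4.hp p q T, m.dd = 1 ∧ m.g = H720.TwFr.permE H720.TwFr.rho4 ∧
      ∀ x, d x = DS.Nt.dd p (m.ι x)) ∧
    ∃ (K : Type) (_ : Field K) (_ : Fintype K) (_ : CharP K p), Fintype.card K = q ^ 3 ∧ Nonempty (T ≃* twistedD4 K q))

section sheets

variable (p k q : ℕ) (T : Type) [Group T] (d : T → ℕ)

/-- [A] tori and the Weyl group -/
structure ElA : Prop where
  conj : ∀ x g, d (g * x * g⁻¹) = d x
  pow : ∀ x (n : ℕ), d x ≤ d (x ^ n)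
  cls : ∀ x, (orderOf x).Coprime p → x ≠ 1 →
    d x = k + 1 ∨ d x = k + 3 ∨ (d x = k + 7 ∧ (k = 1 → x ^ 3 = 1)) ∨ (d x = 3 * (k + 1) ∧ x ^ 2 = 1)
  inv : p ≠ 2 → ∀ x, orderOf x = 2 → d x = 3 * (k + 1)
  reg : ∀ x, (orderOf x).Coprime p → d x = k + 1 →
    (∀ a ∈ centralizer {x}, ∀ b ∈ centralizer {x}, a * b = b * a) ∧ (cn x).Coprime p ∧ Tor k q (cn x) ∧
      Nat.card (Nz (zpowers x)) ≤ ww k * cn x ∧
      ∀ g ∈ Nz (zpowers x), g ^ 6 * x = x * g ^ 6 ∨ (k = 3 ∧ g ^ 4 * x = x * g ^ 4)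
  pm : ∀ x, (orderOf x).Coprime p → d x ≠ k + 1 → ∀ y ∈ zpowers x, IsConj x y → y = x ∨ y = x⁻¹
  rk : ∀ r : ℕ, r.Prime → r ≠ 2 → r ≠ p → PRankLE r 2 T
  neg : ∀ r (E : Subgroup T), EA r E → r ≠ 2 → r ≠ p → ∃ g, ∀ x ∈ E, g * x * g⁻¹ = x⁻¹
  tor : ∀ r (E : Subgroup T), EA r E → r ≠ p → Nat.card E = r ^ 2 → ∃ B : Subgroup T, E ≤ B ∧ B ≤ Cz E ∧
    (∀ a ∈ B, ∀ b ∈ B, a * b = b * a) ∧ (Nat.card B).Coprime p ∧ Tor k q (Nat.card B) ∧ Nz E ≤ Nz B ∧
      B.relIndex (Nz E) ∣ 192 ∧ B.relIndex (Nz E) ≤ ww k ∧ (r ≠ 2 → Cz E ≤ B) ∧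
      ∀ g ∈ Cz E, g ^ 4 ∈ B
  nV : k = 1 → p ≠ 2 → ∀ V : Subgroup T, EA 2 V → Nat.card V = 4 → ∃ (n : ℕ) (B : Subgroup T), (n = q - 1 ∨ n = q + 1) ∧
    V ≤ B ∧ B ≤ Cz V ∧ (∀ a ∈ B, ∀ b ∈ B, a * b = b * a) ∧ Nat.card B = n ^ 2 ∧ Nat.card (Cz V) ≤ 2 * n ^ 2 ∧
      Nat.card (Nz V) = 12 * n ^ 2
  g33 : k = 1 → p ≠ 3 → ∀ E : Subgroup T, EA 3 E → Nat.card E = 9 → ∃ e ∈ E, d e = 8 ∧ ∀ x ∈ E, d x = 8 → x ∈ zpowers e

/-- [B] the orders of the centralisers of the non-regular elements -/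
structure ElB : Prop where
  mild : ∀ x, (orderOf x).Coprime p → d x = k + 3 →
    ∃ m, (m = q ^ k - 1 ∨ m = q ^ k + 1) ∧ cn x = q * (q ^ 2 - 1) * m ∧ x ^ m = 1
  bad1 : k = 1 → ∀ x, (orderOf x).Coprime p → d x = 8 →
    ∃ m, (m = q ^ 3 - 1 ∧ 3 ∣ q - 1 ∨ m = q ^ 3 + 1 ∧ 3 ∣ q + 1) ∧ cn x = q ^ 3 * (q ^ 2 - 1) * m
  bad3 : k = 3 → ∀ x, (orderOf x).Coprime p → d x = 10 →
    ∃ m n z, Bd q m n ∧ cn x = m * n ∧ orderOf z = m ∧ x ∈ zpowers z ∧ d z = 10 ∧ cn z = cn x

/-- [L] facts from the library -/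
structure ElL : Prop where
  par : k = 1 ∧ 3 ≤ q ∨ k = 3 ∧ 2 ≤ q
  pw : ∃ f, 0 < f ∧ q = p ^ f
  card : Nat.card T = ord k q
  one : p ≠ 2 → ∀ s t : T, orderOf s = 2 → orderOf t = 2 → IsConj s t
  cyc : ∃ x : T, orderOf x = (q ^ k - 1) * (q + 1)
  invc : p ≠ 2 → ∀ z : T, orderOf z = 2 → cn z ≤ q * (q ^ 2 - 1) * (q ^ k * ((q ^ k) ^ 2 - 1))
  rk2 : p ≠ 2 → PRankLE 2 3 T
  eight : p ≠ 2 → ∀ E : Subgroup T, EA 2 E → Nat.card E = 8 → Cz E ≤ E
  mu : k = 3 → p = 2 → ∀ S : Subgroup T, IsSimpleGroup S → ¬ IsMulCommutative S → ∀ t : T, orderOf t = 2 →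
    (∀ x ∈ S, x * t = t * x) → ∃ (F : Type) (_ : Field F) (_ : Fintype F) (_ : CharP F 2),
      Nonempty (S ≃* Matrix.SpecialLinearGroup (Fin 2) F)

variable {p T}

/-- the elements of order prime to `2 p` which centralise a four-group of `S` -/
def O4 (p : ℕ) (S : Subgroup T) : Subgroup T :=
  Subgroup.closure {g | (orderOf g).Coprime (2 * p) ∧ ∃ V ≤ S, EA 2 V ∧ Nat.card V = 4 ∧ g ∈ Cz V}

/-- the elements with the same fixed space as a power which lies in `S` -/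
def Zd (d : T → ℕ) (S : Subgroup T) : Subgroup T := Subgroup.closure {z | ∃ s ∈ S, s ∈ zpowers z ∧ d z = d s}

/-- the derived group of the centraliser -/
def Mc (s : T) : Subgroup T := ⁅centralizer {s}, centralizer {s}⁆

variable (p T)

/-- [Lin] linear algebra on the adjoint module -/
structure Lin : Prop where
  sq : k = 3 → ∀ r (E : Subgroup T), EA r E → 5 ≤ r → r ≠ p → Nat.card E = r ^ 2 → ∃ x ∈ E, x ≠ 1 ∧ d x ≤ 6
  b3 : k = 1 → p ≠ 2 → ∀ V : Subgroup T, EA 2 V → Nat.card V = 4 → ∀ t ∈ Nz V, orderOf t = 3 → t ∉ Cz V → d t ≤ 6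
  perm7 : p ≠ 2 → ∀ E : Subgroup T, EA 2 E → Nat.card E = 8 → ∀ g ∈ Nz E, orderOf g = 7 → d g ≤ k + 1
  perm6 : p ≠ 2 → ∀ E : Subgroup T, EA 2 E → Nat.card E = 8 → ∀ t ∈ Nz E, orderOf t = 3 → ∀ a ∈ E, a ≠ 1 →
    t * a = a * t → d (t * a) ≤ k + 1
  scott8 : p ≠ 2 → ∀ E : Subgroup T, EA 2 E → Nat.card E = 8 → ∀ x y, E ≤ Subgroup.closure {x, y} →
    d x + d y + d (x * y) ≤ 7 * (k + 1)
  unip : ∀ x (j : ℕ), x ^ p ^ j = 1 → 7 * (k + 1) ≤ p ^ j * d x

/-- [Sc] Scott's inequality in `³D₄(q)` -/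
structure Sc : Prop where
  four : k = 3 → p ≠ 2 → ∀ x y, 28 < d x + d y + d (x * y) → Subgroup.closure {x, y} ⊔ O4 p (Subgroup.closure {x, y}) ≠ ⊤
  zed : k = 3 → p = 2 → ∀ x y, 30 < d x + d y + d (x * y) → Subgroup.closure {x, y} ⊔ Zd d (Subgroup.closure {x, y}) ≠ ⊤

/-- [Why] the long root subgroup `SL₂(q)` of `³D₄(q)`, `q ≥ 4` even -/
def Why : Prop := k = 3 → p = 2 → 4 ≤ q → ∀ s : T, orderOf s = q + 1 → d s = 10 →
  Nat.card (Mc s) = q ^ 3 * (q ^ 6 - 1) ∧ ¬ Group.IsSolvable (Cz (Mc s)) ∧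
    ∀ x y, s ∈ Subgroup.closure {x, y} → 32 < d x + d y + d (x * y) → Subgroup.closure {x, y} ⊔ Cz (Mc s) ≠ ⊤

/-- [U5] subregular unipotent elements of `³D₄(5^f)` -/
def U5 : Prop := k = 3 → p = 5 → ∀ u : T, orderOf u = 5 → d u ≤ 6 → cn u ≤ q ^ 9

/-- all facts -/
structure Sh : Prop extends ElA p k q T d, ElB p k q T d, ElL p k q T, Lin p k T d, Sc p k T d where
  prime : p.Prime
  why : Why p k q T d
  u5 : U5 p k q T d

end sheets

/-- a property of the models -/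
def OnMod (P : ∀ (p k q : ℕ) (T : Type) [Group T], (T → ℕ) → Prop) : Prop :=
  ∀ (p : ℕ) [Fact p.Prime] (k q : ℕ) (T : Type) [Group T] [Finite T] [IsSimpleGroup T] (d : T → ℕ), Mod p k q T d → P p k q T d

/-- [A] -/
def BoxA : Prop := OnMod fun p k q T _ d => ElA p k q T d
/-- [B] -/
def BoxB : Prop := OnMod fun p k q T _ d => ElB p k q T d
/-- [L] -/
def BoxL : Prop := OnMod fun p k q T _ _ => ElL p k q T
/-- [Lin] -/
def BoxLin : Prop := OnMod fun p k q T _ d => ElA p k q T d → ElL p k q T → Lin p k T d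
/-- [Sc] -/
def BoxSc : Prop := OnMod fun p k q T _ d => ElA p k q T d → ElL p k q T → Sc p k T d
/-- [Why] -/
def BoxWhy : Prop := OnMod fun p k q T _ d => ElA p k q T d → ElB p k q T d → ElL p k q T → Why p k q T d
/-- [U5] -/
def BoxU5 : Prop := OnMod fun p k q T _ d => ElA p k q T d → ElB p k q T d → ElL p k q T → U5 p k q T d

/-! ### the frame -/

section frame

variable {T : Type} [Group T]

/-- the non-parabolic context -/
structure Cx (p : ℕ) (A : Subgroup T) (Γ : Subgroup (MulAut T)) : Prop where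
  mi : MI A Γ
  noP : ∀ E : Subgroup T, Inv Γ E → IsPGroup p E → E = ⊥
  idx : p ∣ A.index

/-- a minimal invariant elementary abelian subgroup -/
structure Loc (Γ : Subgroup (MulAut T)) (E : Subgroup T) (r : ℕ) : Prop extends EA r E where
  inv : Inv Γ E
  min : ∀ E' ≤ E, Inv Γ E' → E' = ⊥ ∨ E' = E

/-- an invariant simple subgroup with trivial centraliser -/
structure Sim (A : Subgroup T) (Γ : Subgroup (MulAut T)) (S : Subgroup T) : Prop where
  le : S ≤ A
  inv : Inv Γ S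
  simple : IsSimpleGroup S
  nonab : ¬ IsMulCommutative S
  cent : ∀ t, (∀ x ∈ S, t * x = x * t) → t = 1

/-- an invariant set of at least two commuting simple subgroups with trivial centraliser -/
structure Mul (A : Subgroup T) (Γ : Subgroup (MulAut T)) (𝓢 : Set (Subgroup T)) : Prop where
  le : ∀ S ∈ 𝓢, S ≤ A
  simple : ∀ S ∈ 𝓢, IsSimpleGroup S
  nonab : ∀ S ∈ 𝓢, ¬ IsMulCommutative S
  comm : ∀ S ∈ 𝓢, ∀ S' ∈ 𝓢, S ≠ S' → ∀ x ∈ S, ∀ y ∈ S', x * y = y * x
  perm : ∀ σ ∈ Γ, ∀ S ∈ 𝓢, S.map σ.toMonoidHom ∈ 𝓢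
  two : 𝓢.Nontrivial
  cent : ∀ t, (∀ S ∈ 𝓢, ∀ x ∈ S, t * x = x * t) → t = 1

end frame

/-- a property of the pairs `(A, Γ)` over the sheet -/
def On (P : ∀ (p k q : ℕ) (T : Type) [Group T], Subgroup T → Subgroup (MulAut T) → Prop) : Prop :=
  ∀ (p k q : ℕ) (T : Type) [Group T] [Finite T] [IsSimpleGroup T] (d : T → ℕ) (A : Subgroup T) (Γ : Subgroup (MulAut T)),
    Sh p k q T d → Cx p A Γ → P p k q T A Γ

/-- [LocO] odd local subgroups -/
def BoxLocO : Prop := On fun _ _ _ _ _ A Γ => ∀ E r, Loc Γ E r → r ≠ 2 → Good A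
/-- [Loc2] `2`-local subgroups -/
def BoxLoc2 : Prop := BoxLocO → On fun _ _ _ _ _ A Γ => ∀ E, Loc Γ E 2 → Good A
/-- [Mul] several components -/
def BoxMul : Prop := On fun _ _ _ _ _ A Γ => ∀ 𝓢, Mul A Γ 𝓢 → Good A
/-- [Sim] a simple socle in the family `P p` -/
def BoxSim (P : ℕ → Fam) : Prop := On fun p _ _ _ _ A Γ => ∀ S, Sim A Γ S → P p S → Good A

/-- `PSL_n(F)` -/
abbrev PSL (n : ℕ) (F : Type) [Field F] : Type := Matrix.ProjectiveSpecialLinearGroup (Fin n) F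

/-- `L₂` in the defining characteristic, `L₂(8)`, `A₅`, `A₆` -/
def pL2 : ℕ → Fam := fun p S _ =>
  (∃ (F : Type) (_ : Field F) (_ : Fintype F), (p ∣ Fintype.card F ∨ Fintype.card F = 5 ∨ Fintype.card F = 8 ∨
    Fintype.card F = 9) ∧ 4 ≤ Fintype.card F ∧ Nonempty (S ≃* PSL 2 F)) ∨
  Nonempty (S ≃* alternatingGroup (Fin 5)) ∨ Nonempty (S ≃* alternatingGroup (Fin 6))

/-- `L₂` in odd cross characteristic, `L₃`, `U₃` -/
def pL3 : ℕ → Fam := fun p S _ => ∃ (F : Type) (_ : Field F) (_ : Fintype F),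
  (Odd (Fintype.card F) ∧ ¬ p ∣ Fintype.card F ∧ 7 ≤ Fintype.card F ∧ Fintype.card F ≠ 9 ∧ Nonempty (S ≃* PSL 2 F)) ∨
  ((Odd (Fintype.card F) ∨ p = 2) ∧ Nonempty (S ≃* PSL 3 F)) ∨
  ∃ n, Fintype.card F = n ^ 2 ∧ (Odd n ∨ (p = 2 ∧ 4 ≤ n) ∨ n = 4 ∨ n = 8) ∧ Nonempty (S ≃* PSU 3 F n)

/-- the other groups of Lie type of rank at most two -/
def pX : ℕ → Fam := fun p S _ =>
  (∃ (F : Type) (_ : Field F) (_ : Fintype F), (Odd (Fintype.card F) ∨ (p = 2 ∧ 4 ≤ Fintype.card F)) ∧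
    Nonempty (S ≃* chevG2.group F)) ∨
  (∃ (K : Type) (_ : Field K) (_ : Fintype K) (n : ℕ), (Odd n ∨ p = 2) ∧ Fintype.card K = n ^ 3 ∧
    Nonempty (S ≃* twistedD4 K n)) ∨
  IsoRee S ∨ (p = 2 ∧ IsoSuzuki S) ∨
  (∃ (F : Type) (_ : Field F) (_ : Fintype F), Fintype.card F = 8 ∧ Nonempty (S ≃* Sz F 4)) ∨
  (p = 2 ∧ ((∃ (F : Type) (_ : Field F) (_ : Fintype F), CharP F 2 ∧ 4 ≤ Fintype.card F ∧ Nonempty (S ≃* PSp 2 F)) ∨
    (∃ (F : Type) (_ : Field F) (_ : Fintype F) (n : ℕ), 1 ≤ n ∧ Fintype.card F = (2 ^ n) ^ 2 ∧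
      Nonempty (S ≃* PSU 4 F (2 ^ n))) ∨
    (∃ (F : Type) (_ : Field F) (_ : Fintype F), Fintype.card F = 16 ∧ Nonempty (S ≃* PSU 5 F 4)) ∨
    Iso2F4 S ∨ IsoTits S))

/-- finitely many groups -/
def pFin : ℕ → Fam := fun p S _ =>
  Nonempty (S ≃* alternatingGroup (Fin 7)) ∨ IsM11 S ∨ Spor.IsoJ1 S ∨ Spor.IsoM12 S ∨ Spor.IsoON S ∨
  (p = 2 ∧ ((∃ (F : Type) (_ : Field F) (_ : Fintype F), Fintype.card F = 2 ∧
      (Nonempty (S ≃* PSL 4 F) ∨ Nonempty (S ≃* PSL 5 F) ∨ Nonempty (S ≃* PSp 3 F))) ∨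
    Nonempty (S ≃* alternatingGroup (Fin 8)) ∨ Nonempty (S ≃* alternatingGroup (Fin 9)) ∨
    (∃ (F : Type) (_ : Field F) (_ : Fintype F), Fintype.card F = 3 ∧ Nonempty (S ≃* PSL 4 F)) ∨
    (∃ (F : Type) (_ : Field F) (_ : Fintype F), Fintype.card F = 9 ∧ Nonempty (S ≃* PSU 4 F 3)) ∨
    Spor.IsoM11 S ∨ Spor.IsoM22 S ∨ Spor.IsoM23 S ∨ Spor.IsoM24 S ∨ Spor.IsoJ2 S ∨ Spor.IsoJ3 S ∨
    Spor.IsoJ4 S ∨ Spor.IsoHS S ∨ Spor.IsoHe S ∨ Spor.IsoRu S))

/-- [List] the simple groups of small rank -/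
def BoxList : Prop := Cf → ∀ (p : ℕ) (S : Type) [Group S] [Finite S] [IsSimpleGroup S], ¬ IsMulCommutative S → p.Prime →
  (p ≠ 2 → PRankLE 2 3 S) → (∀ r : ℕ, r.Prime → r ≠ 2 → r ≠ p → PRankLE r 2 S) → pL2 p S ∨ pL3 p S ∨ pX p S ∨ pFin p S

/-- all boxes -/
structure Boxes : Prop where
  a : BoxA
  b : BoxB
  l : BoxL
  lin : BoxLin
  sc : BoxSc
  why : BoxWhy
  u5 : BoxU5
  locO : BoxLocO
  loc2 : BoxLoc2
  mul : BoxMul
  list : BoxList
  l2 : BoxSim pL2
  l3 : BoxSim pL3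
  x : BoxSim pX
  fin : BoxSim pFin

end Cfsg.Agent.N2.G2
end

-- part: N2/G2/Lin
section
prune_inst 0x43040005da202000000051060001a26b2000400000300000880080209882e4200000e0004800108000800800034000810100010000000000000000000040120900052041240ad0c560089000000410000000000000000000000000000010004000000000
set_option linter.all false
open scoped Cfsg.Agent.FastGrp

/-!
# N2 (S3519), `G₂(q)` and `³D₄(q)`: the box [Lin] (lead)
-/

set_option autoImplicit false
set_option linter.unusedSectionVars false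

namespace Cfsg.Agent.N2.G2

open Subgroup Cfsg Cfsg.Lie Cfsg.Agent.FP3 Cfsg.Agent.H316.U6 Module
open Cfsg.Agent.SB.Low (EA Nz Cz hpG2)

namespace Ln

section grp

variable {T : Type} [Group T] [Finite T]

theorem card_mod {E : Subgroup T} {g : T} (hg : g ∈ Nz E) {s : ℕ} (hs : s.Prime) (h : g ^ s = 1) :
    Nat.card E ≡ Nat.card (E ⊓ centralizer {g} : Subgroup T) [MOD s] := by
  classical
  have : Fact s.Prime := ⟨hs⟩
  have := Fintype.ofFinite E
  let f : Function.End E := fun x => ⟨g * x * g⁻¹, (mem_normalizer_iff.1 hg x).1 x.2⟩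
  have h1 : ∀ (n : ℕ) (x : E), (((f ^ n) x : E) : T) = g ^ n * x * (g ^ n)⁻¹ := fun n => by
    induction n with
    | zero => intro x; simp; rfl
    | succ n ih =>
      intro x
      rw [pow_succ' f, pow_succ' g]
      change g * ((f ^ n) x : E) * g⁻¹ = _
      rw [ih]; group
  have h2 := Equiv.Perm.card_fixedPoints_modEq (f := f) (p := s) (n := 1) (funext fun x => Subtype.ext (by
    rw [pow_one, h1, h, one_mul, inv_one, mul_one]; rfl))
  rw [← Nat.card_eq_fintype_card, ← Nat.card_eq_fintype_card] at h2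
  rwa [show Nat.card f.fixedPoints = Nat.card (E ⊓ centralizer {g} : Subgroup T) from Nat.card_congr
    ⟨fun x => ⟨x.1.1, x.1.2, mem_centralizer_singleton_iff.2 (mul_inv_eq_iff_eq_mul.1 (congrArg Subtype.val x.2)).symm⟩,
      fun x => ⟨⟨x.1, x.2.1⟩, Subtype.ext (mul_inv_eq_iff_eq_mul.2 (mem_centralizer_singleton_iff.1 x.2.2).symm)⟩,
      fun _ => rfl, fun _ => rfl⟩] at h2

theorem card_ne {E : Subgroup T} {g : T} (hg : g ∉ Cz E) : Nat.card (E ⊓ centralizer {g} : Subgroup T) ≠ Nat.card E :=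
  fun e => hg (mem_centralizer_iff.2 fun x hx => by
    have h1 := eq_of_le_of_card_ge (inf_le_left : E ⊓ centralizer {g} ≤ E) e.ge
    exact mem_centralizer_singleton_iff.1 (h1.ge hx).2)

theorem exists_four {E : Subgroup T} (hE : EA 2 E) (h8 : Nat.card E = 8) {a : T} (ha : a ∈ E) (h1 : a ≠ 1) :
    ∃ V ≤ E, a ∈ V ∧ Nat.card V = 4 := by
  have h2 : orderOf (⟨a, ha⟩ : E) = 2 := orderOf_eq_prime (Subtype.ext (hE.pow a ha)) fun e => h1 (congrArg Subtype.val e)
  obtain ⟨V, h3, h4⟩ := Sylow.exists_subgroup_card_pow_prime_le (G := E) 2 (n := 1) (m := 2) (by rw [h8]; norm_num)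
    (zpowers ⟨a, ha⟩) (by rw [Nat.card_zpowers, h2, pow_one]) (by norm_num)
  refine ⟨V.map E.subtype, map_subtype_le V, ⟨_, h4 (mem_zpowers _), rfl⟩, ?_⟩
  rw [card_map_of_injective E.subtype_injective, h3]
  norm_num

theorem eq_or {H : Subgroup T} (h2 : Nat.card H = 2) {a z : T} (ha : a ∈ H) (h1 : a ≠ 1) (hz : z ∈ H) : z = 1 ∨ z = a := by
  obtain ⟨y, -, hy⟩ := (Nat.card_eq_two_iff' (1 : H)).1 h2
  refine or_iff_not_imp_left.2 fun e => ?_
  exact congrArg Subtype.val ((hy ⟨z, hz⟩ fun e' => e (congrArg Subtype.val e')).trans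
    (hy ⟨a, ha⟩ fun e' => h1 (congrArg Subtype.val e')).symm)

theorem gen4 {V H : Subgroup T} (h4 : Nat.card V = 4) {a b : T} (ha : a ∈ V ⊓ H) (hb : b ∈ V ⊓ H) (h1 : a ≠ 1) (h2 : b ≠ 1)
    (h3 : b ≠ a) : V ≤ H := by
  have h5 := card_dvd_of_le (inf_le_left : V ⊓ H ≤ V)
  have h6 : Nat.card (V ⊓ H : Subgroup T) ≠ 1 := fun e => h1 (mem_bot.1 (card_eq_one.1 e ▸ ha))
  have h7 : Nat.card (V ⊓ H : Subgroup T) ≠ 2 := fun e => (eq_or e ha h1 hb).elim h2 h3
  refine inf_eq_left.1 (eq_of_le_of_card_ge inf_le_left ?_)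
  rw [h4] at h5 ⊢
  have := Nat.le_of_dvd (by norm_num) h5
  interval_cases Nat.card (V ⊓ H : Subgroup T) <;> simp_all

end grp

variable {K W T : Type} [Field K] [IsAlgClosed K] [AddCommGroup W] [Module K W] [FiniteDimensional K W] [Group T] [Finite T]
  (ρ : T →* End K W)

/-- the fixed space of a subgroup -/
def Fx (V : Subgroup T) : Submodule K W where
  carrier := {w | ∀ v ∈ V, ρ v w = w}
  zero_mem' := fun _ _ => map_zero _
  add_mem' := fun hv hw y hy => by rw [map_add, hv y hy, hw y hy]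
  smul_mem' := fun c _ hw y hy => by rw [map_smul, hw y hy]

/-- the stabiliser of a vector -/
def St (w : W) : Subgroup T where
  carrier := {v | ρ v w = w}
  one_mem' := by change ρ 1 w = w; rw [map_one, End.one_apply]
  mul_mem' := fun {a b} (ha : ρ a w = w) (hb : ρ b w = w) => by
    change ρ (a * b) w = w
    rw [map_mul, End.mul_apply, hb, ha]
  inv_mem' := fun {a} (ha : ρ a w = w) => by
    change ρ a⁻¹ w = w
    nth_rewrite 1 [← ha]
    rw [← End.mul_apply, ← map_mul, inv_mul_cancel, map_one, End.one_apply]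

theorem ev_eq (V : Subgroup T) (e : V) : DS.NT.ev (ρ.comp V.subtype) e 1 = dfx (ρ e) := by
  rw [dfx, DS.NT.ev, End.eigenspace_def, one_smul]
  rfl

theorem pure {r : ℕ} {V : Subgroup T} (hV : EA r V) (hK : (r : K) ≠ 0) {c : ℕ} (hc : ∀ x ∈ V, x ≠ 1 → dfx (ρ x) = c) :
    ((r : ℤ) - 1) * Nat.card V * finrank K (Fx ρ V) = Nat.card V * (r * c - finrank K W) + r * (finrank K W - c) := by
  have := Fintype.ofFinite V
  rw [Nat.card_eq_fintype_card]
  exact DS.NT.dim_pure (ρ.comp V.subtype) hV.prime hK (fun x y => Subtype.ext (hV.comm _ x.2 _ y.2))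
    (fun x => Subtype.ext (hV.pow _ x.2)) (Fx ρ V) (fun v => ⟨fun h e => h e e.2, fun h e he => h ⟨e, he⟩⟩)
    fun e he => (ev_eq ρ V e).trans (hc e e.2 fun h => he (Subtype.ext h))

theorem sum_mem (V : Subgroup T) [Fintype V] (w : W) : ∑ v : V, ρ v w ∈ Fx ρ V := fun e he => by
  rw [map_sum]
  exact Fintype.sum_equiv (Equiv.mulLeft (⟨e, he⟩ : V)) _ _ fun v => by
    rw [← End.mul_apply, ← map_mul]
    rfl

theorem le_of_inj {A B : Submodule K W} (f : End K W) (h1 : ∀ w ∈ A, f w ∈ B) (h2 : ∀ w ∈ A, f w = 0 → w = 0) :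
    finrank K A ≤ finrank K B :=
  LinearMap.finrank_le_finrank_of_injective (f := f.restrict h1) ((injective_iff_map_eq_zero _).2 fun w e =>
    Subtype.ext (h2 w w.2 (congrArg Subtype.val e)))

theorem conj_fix {t b : T} {w : W} (h : ρ t w = w) : ρ (t * b * t⁻¹) w = ρ t (ρ b w) := by
  have h1 : ρ t⁻¹ w = w := (St ρ w).inv_mem h
  rw [map_mul, map_mul, End.mul_apply, End.mul_apply, h1]

/-- an orbit of length three -/
theorem three {E : Subgroup T} (hc : ∀ x ∈ E, ∀ y ∈ E, x * y = y * x) {t b : T} (ht : t ∈ Nz E) (h3 : t ^ 3 = 1) (hb : b ∈ E)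
    {w : W} (h1 : ρ t w = w) (h2 : ρ b w = -w) : ∃ z ∈ E ⊓ centralizer {t}, ρ z w = -w := by
  have a1 := (mem_normalizer_iff.1 ht b).1 hb
  have a2 := (mem_normalizer_iff.1 ht _).1 a1
  have b1 : ρ (t * b * t⁻¹) w = -w := by rw [conj_fix ρ h1, h2, map_neg, h1]
  have b2 : ρ (t * (t * b * t⁻¹) * t⁻¹) w = -w := by rw [conj_fix ρ h1, b1, map_neg, h1]
  refine ⟨b * (t * b * t⁻¹) * (t * (t * b * t⁻¹) * t⁻¹), ⟨mul_mem (mul_mem hb a1) a2, mem_centralizer_singleton_iff.2 ?_⟩, ?_⟩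
  · have h4 : t * (t * (t * b * t⁻¹) * t⁻¹) * t⁻¹ = b := by
      calc _ = t ^ 3 * b * (t ^ 3)⁻¹ := by rw [pow_three]; group
        _ = b := by rw [h3]; group
    refine (mul_inv_eq_iff_eq_mul.1 ?_).symm
    calc _ = (t * b * t⁻¹) * (t * (t * b * t⁻¹) * t⁻¹) * (t * (t * (t * b * t⁻¹) * t⁻¹) * t⁻¹) := by group
      _ = _ := by rw [h4, ← hc b hb _ (mul_mem a1 a2), mul_assoc b]
  · rw [map_mul, map_mul, End.mul_apply, End.mul_apply, b2, map_neg, b1, neg_neg, h2]

theorem eq_zero_of_neg (h2 : (2 : K) ≠ 0) {w : W} (h : w = -w) : w = 0 :=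
  (smul_eq_zero_iff_right h2).1 (by rw [two_smul]; exact add_eq_zero_iff_eq_neg.2 h)

theorem add_fix {b : T} (hb : b ^ 2 = 1) (w : W) : ρ b ((1 + ρ b) w) = (1 + ρ b) w := by
  rw [← End.mul_apply, mul_add, mul_one, ← map_mul, ← sq, hb, map_one, add_comm]

section two

variable (h2 : (2 : K) ≠ 0) {n : ℕ} (hN : finrank K W = 7 * n) (hi : ∀ x : T, orderOf x = 2 → dfx (ρ x) = 3 * n)
include h2 hN hi

theorem fx_dim {V : Subgroup T} (hV : EA 2 V) : (Nat.card V : ℤ) * finrank K (Fx ρ V) = (8 - Nat.card V) * n := by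
  have h := pure ρ hV (by exact_mod_cast h2) fun x hx h1 => hi x (orderOf_eq_prime (hV.pow x hx) h1)
  rw [hN] at h
  push_cast at h
  linear_combination h

theorem fx_eight {E : Subgroup T} (hE : EA 2 E) (h8 : Nat.card E = 8) {w : W} (hw : w ∈ Fx ρ E) : w = 0 := by
  have h := fx_dim ρ h2 hN hi hE
  rw [h8] at h
  have h1 : finrank K (Fx ρ E) = 0 := by push_cast at h; omega
  rwa [Submodule.finrank_eq_zero.1 h1, Submodule.mem_bot] at hw

theorem fx_four {E V : Subgroup T} (hE : EA 2 E) (hV : V ≤ E) (h4 : Nat.card V = 4) : finrank K (Fx ρ V) = n := by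
  have h := fx_dim ρ h2 hN hi (V := V) ⟨hE.prime, fun e => by simp [e] at h4, fun x hx => hE.pow x (hV hx),
    fun x hx y hy => hE.comm x (hV hx) y (hV hy)⟩
  rw [h4] at h
  push_cast at h
  omega

theorem b3 {V : Subgroup T} (hV : EA 2 V) (h4 : Nat.card V = 4) {t : T} (ht : t ∈ Nz V) (h3 : orderOf t = 3)
    (h0 : t ∉ Cz V) : dfx (ρ t) ≤ 3 * n := by
  have h5 : t ^ 3 = 1 := h3 ▸ pow_orderOf_eq_one t
  have h6 := card_mod ht Nat.prime_three h5
  have h7 := card_ne h0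
  have h8 := card_dvd_of_le (inf_le_left : V ⊓ centralizer {t} ≤ V)
  rw [h4] at h6 h7 h8
  have h9 : V ⊓ centralizer {t} = ⊥ := card_eq_one.1 (by
    have := Nat.le_of_dvd (by norm_num) h8
    interval_cases Nat.card (V ⊓ centralizer {t} : Subgroup T) <;> simp_all [Nat.ModEq])
  obtain ⟨a, ha, h1⟩ := (V.bot_or_exists_ne_one).resolve_left hV.ne_bot
  rw [← hi a (orderOf_eq_prime (hV.pow a ha) h1)]
  refine le_of_inj (1 + ρ a) (fun w _ => mem_fixSp.2 (add_fix ρ (hV.pow a ha) w)) fun w hw e => ?_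
  obtain ⟨z, hz, e'⟩ := three ρ hV.comm ht h5 ha (mem_fixSp.1 hw) (eq_neg_of_add_eq_zero_right e)
  rw [h9, mem_bot] at hz
  rw [hz, map_one] at e'
  exact eq_zero_of_neg h2 e'

theorem perm6 {E : Subgroup T} (hE : EA 2 E) (h8 : Nat.card E = 8) (hC : Cz E ≤ E) {t : T} (ht : t ∈ Nz E) (h3 : orderOf t = 3)
    {a : T} (ha : a ∈ E) (h1 : a ≠ 1) (hc : t * a = a * t) : dfx (ρ (t * a)) ≤ n := by
  have h5 : t ^ 3 = 1 := h3 ▸ pow_orderOf_eq_one t
  have h6 := card_mod ht Nat.prime_three h5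
  have h7 := card_ne (g := t) fun e => by
    have := orderOf_dvd_of_pow_eq_one (hE.pow t (hC e))
    rw [h3] at this
    omega
  have h9 := card_dvd_of_le (inf_le_left : E ⊓ centralizer {t} ≤ E)
  rw [h8] at h6 h7 h9
  have h10 : Nat.card (E ⊓ centralizer {t} : Subgroup T) = 2 := by
    have := Nat.le_of_dvd (by norm_num) h9
    interval_cases Nat.card (E ⊓ centralizer {t} : Subgroup T) <;> simp_all [Nat.ModEq]
  have h11 : ∀ z ∈ E ⊓ centralizer {t}, z = 1 ∨ z = a := fun z hz =>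
    eq_or h10 ⟨ha, mem_centralizer_singleton_iff.2 hc.symm⟩ h1 hz
  obtain ⟨V, hV, haV, h4⟩ := exists_four hE h8 ha h1
  obtain ⟨b, hb, hb1, hba⟩ : ∃ b ∈ V, b ≠ 1 ∧ b ≠ a := by
    by_contra h0
    push Not at h0
    have h12 : V ≤ E ⊓ centralizer {t} := fun b hb => ⟨hV hb, by
      by_cases e : b = 1
      · rw [e]; exact one_mem _
      · rw [h0 b hb e]; exact mem_centralizer_singleton_iff.2 hc.symm⟩
    have := card_le_of_le h12
    omega
  have hfa : ∀ w, ρ (t * a) w = w → ρ a w = w ∧ ρ t w = w := fun w hw => by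
    have h12 : ∀ m : ℕ, ρ ((t * a) ^ m) w = w := fun m => (St ρ w).pow_mem hw m
    have h13 := h12 3
    have h14 := h12 4
    rw [(show Commute t a from hc).mul_pow] at h13 h14
    rw [h5, one_mul, pow_succ, hE.pow a ha, one_mul] at h13
    rw [pow_succ t, h5, one_mul, show 4 = 2 * 2 from rfl, pow_mul, hE.pow a ha, one_pow, mul_one] at h14
    exact ⟨h13, h14⟩
  rw [← fx_four ρ h2 hN hi hE hV h4]
  refine le_of_inj (1 + ρ b) (fun w hw v hv => ?_) fun w hw e => ?_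
  · refine gen4 (H := St ρ ((1 + ρ b) w)) h4 ⟨haV, ?_⟩ ⟨hb, add_fix ρ (hE.pow b (hV hb)) w⟩ h1 hb1 hba hv
    change ρ a (w + ρ b w) = w + ρ b w
    rw [map_add, ← End.mul_apply (ρ a), ← map_mul, hE.comm a ha b (hV hb), map_mul, End.mul_apply,
      (hfa w (mem_fixSp.1 hw)).1]
  · obtain ⟨h12, h13⟩ := hfa w (mem_fixSp.1 hw)
    obtain ⟨z, hz, e'⟩ := three ρ hE.comm ht h5 (hV hb) h13 (eq_neg_of_add_eq_zero_right e)
    refine eq_zero_of_neg h2 (Eq.trans ?_ e')
    rcases h11 z hz with rfl | rfl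
    · rw [map_one, End.one_apply]
    · exact h12.symm

theorem perm7 {E : Subgroup T} (hE : EA 2 E) (h8 : Nat.card E = 8) (hC : Cz E ≤ E) {g : T} (hg : g ∈ Nz E)
    (h7 : orderOf g = 7) : dfx (ρ g) ≤ n := by
  classical
  have hp : Nat.Prime 7 := by norm_num
  have h5 : g ^ 7 = 1 := h7 ▸ pow_orderOf_eq_one g
  have h6 : ∀ i : ℕ, ¬ 7 ∣ i → E ⊓ centralizer {g ^ i} = ⊥ := fun i hi => card_eq_one.1 (by
    have a1 := card_mod (pow_mem hg i) hp (by rw [← pow_mul, mul_comm, pow_mul, h5, one_pow])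
    have a2 := card_ne (g := g ^ i) fun e => by
      have := orderOf_dvd_of_pow_eq_one ((pow_mul g i 2).trans (hE.pow _ (hC e)))
      rw [h7] at this
      omega
    have a3 := card_dvd_of_le (inf_le_left : E ⊓ centralizer {g ^ i} ≤ E)
    rw [h8] at a1 a2 a3
    have := Nat.le_of_dvd (by norm_num) a3
    interval_cases Nat.card (E ⊓ centralizer {g ^ i} : Subgroup T) <;> simp_all [Nat.ModEq])
  have := Fintype.ofFinite E
  have h9 : ∀ x ∈ E, x ≠ 1 → ∀ w, ∑ i ∈ Finset.range 7, ρ (g ^ i * x * (g ^ i)⁻¹) w = -w := fun x hx h1 w => by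
    let c : ℕ → E := fun i => ⟨g ^ i * x * (g ^ i)⁻¹, (mem_normalizer_iff.1 (pow_mem hg i) x).1 hx⟩
    have a1 : ∀ i j, i < j → j < 7 → c i ≠ c j := fun i j h3 h4 e => by
      obtain ⟨m, rfl⟩ := Nat.exists_eq_add_of_lt h3
      have a2 : g ^ i * x * (g ^ i)⁻¹ = g ^ (i + m + 1) * x * (g ^ (i + m + 1))⁻¹ := congrArg Subtype.val e
      refine h1 (mem_bot.1 (h6 (m + 1) (by omega) ▸ ⟨hx, mem_centralizer_singleton_iff.2 ?_⟩))
      calc x * g ^ (m + 1) = (g ^ i)⁻¹ * (g ^ i * x * (g ^ i)⁻¹) * g ^ (i + m + 1) := by group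
        _ = _ := by rw [a2]; group
    have a2 : Set.InjOn c (Finset.range 7) := fun i hi j hj e => by
      rcases lt_trichotomy i j with a | a | a
      · exact absurd e (a1 i j a (Finset.mem_range.1 hj))
      · exact a
      · exact absurd e.symm (a1 j i a (Finset.mem_range.1 hi))
    have a3 : (Finset.range 7).image c = Finset.univ.erase 1 := Finset.eq_of_subset_of_card_le (fun y hy => by
      obtain ⟨i, -, rfl⟩ := Finset.mem_image.1 hy
      exact Finset.mem_erase.2 ⟨fun e => h1 (conj_eq_one_iff.1 (congrArg Subtype.val e)), Finset.mem_univ _⟩) (by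
      rw [Finset.card_image_of_injOn a2, Finset.card_erase_of_mem (Finset.mem_univ _), Finset.card_univ,
        ← Nat.card_eq_fintype_card, h8, Finset.card_range])
    have a4 := fx_eight ρ h2 hN hi hE h8 (sum_mem ρ E w)
    rw [← Finset.add_sum_erase _ _ (Finset.mem_univ (1 : E)), ← a3, Finset.sum_image a2, OneMemClass.coe_one, map_one,
      End.one_apply] at a4
    exact eq_neg_of_add_eq_zero_right a4
  obtain ⟨a, ha, h1⟩ := (E.bot_or_exists_ne_one).resolve_left hE.ne_bot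
  obtain ⟨V, hV, -, h4⟩ := exists_four hE h8 ha h1
  have := Fintype.ofFinite V
  rw [← fx_four ρ h2 hN hi hE hV h4]
  refine le_of_inj (∑ v : V, ρ v) (fun w _ => by rw [LinearMap.sum_apply]; exact sum_mem ρ V w) fun w hw e => ?_
  have a1 : ∀ i : ℕ, ρ (g ^ i) w = w := fun i => (St ρ w).pow_mem (mem_fixSp.1 hw) i
  have a2 : ∑ v : V, ∑ i ∈ Finset.range 7, ρ (g ^ i * v * (g ^ i)⁻¹) w = 0 := by
    rw [Finset.sum_comm]
    refine Finset.sum_eq_zero fun i _ => ?_
    rw [Finset.sum_congr rfl fun (v : V) _ => conj_fix ρ (b := v) (a1 i), ← map_sum, ← LinearMap.sum_apply, e, map_zero]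
  rw [← Finset.add_sum_erase _ _ (Finset.mem_univ (1 : V)), Finset.sum_congr rfl fun (v : V) hv =>
    h9 v (hV v.2) (fun e => Finset.ne_of_mem_erase hv (Subtype.ext e)) w, Finset.sum_const,
    Finset.card_erase_of_mem (Finset.mem_univ _), Finset.card_univ, ← Nat.card_eq_fintype_card, h4] at a2
  simp only [OneMemClass.coe_one, mul_one, mul_inv_cancel, map_one, End.one_apply, Finset.sum_const, Finset.card_range] at a2
  refine (smul_eq_zero_iff_right (mul_ne_zero h2 h2)).1 ?_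
  rw [← a2]
  module

theorem scott8 {E : Subgroup T} (hE : EA 2 E) (h8 : Nat.card E = 8) {x y : T} (h : E ≤ Subgroup.closure {x, y}) :
    dfx (ρ x) + dfx (ρ y) + dfx (ρ (x * y)) ≤ 7 * n := by
  rw [← hN, map_mul]
  refine scott _ _ (fun w h1 h3 => fx_eight ρ h2 hN hi hE h8 fun e he => (closure_le (St ρ w)).2 ?_ (h he))
    (eq_top_iff.2 fun w _ => ?_)
  · rintro _ (rfl | rfl)
    exacts [h1, h3]
  have h1 : ∀ z ∈ Subgroup.closure {x, y}, ∀ v, ρ z v - v ∈ comSp (ρ x) ⊔ comSp (ρ y) := fun z hz => by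
    induction hz using closure_induction with
    | mem z hz =>
      rcases hz with rfl | rfl
      · exact fun v => Submodule.mem_sup_left ⟨v, rfl⟩
      · exact fun v => Submodule.mem_sup_right ⟨v, rfl⟩
    | one => intro v; rw [map_one, End.one_apply, sub_self]; exact zero_mem _
    | mul z u _ _ hz hu =>
      intro v
      rw [map_mul, End.mul_apply, ← sub_add_sub_cancel _ (ρ u v)]
      exact add_mem (hz _) (hu _)
    | inv z _ hz =>
      intro v
      have h4 := neg_mem (hz (ρ z⁻¹ v))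
      rwa [← End.mul_apply, ← map_mul, mul_inv_cancel, map_one, End.one_apply, neg_sub] at h4
  have := Fintype.ofFinite E
  have h3 := neg_mem (Submodule.sum_mem _ fun (e : E) (_ : e ∈ Finset.univ) => h1 e (h e.2) w)
  rw [Finset.sum_sub_distrib, fx_eight ρ h2 hN hi hE h8 (sum_mem ρ E w), Finset.sum_const, Finset.card_univ,
    ← Nat.card_eq_fintype_card, h8, zero_sub, neg_neg, ← Nat.cast_smul_eq_nsmul K] at h3
  refine (Submodule.smul_mem_iff _ ?_).1 h3
  rw [show ((8 : ℕ) : K) = 2 ^ 3 by norm_num]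
  exact pow_ne_zero 3 h2

end two

theorem ker_pow_le (f : End K W) (a : ℕ) : finrank K (LinearMap.ker (f ^ a)) ≤ a * finrank K (LinearMap.ker f) := by
  induction a with
  | zero => rw [pow_zero, End.one_eq_id, LinearMap.ker_id, finrank_bot, zero_mul]
  | succ a ih =>
    let r : LinearMap.ker (f ^ (a + 1)) →ₗ[K] LinearMap.ker (f ^ a) :=
      (f ∘ₗ (LinearMap.ker (f ^ (a + 1))).subtype).codRestrict _ fun v => by
        have h : (f ^ (a + 1)) (v : W) = 0 := v.2
        exact (congrArg (fun g : End K W => g (v : W)) (pow_succ f a)).symm.trans h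
    have h1 := LinearMap.finrank_range_add_finrank_ker r
    have h2 := Submodule.finrank_le (LinearMap.range r)
    have h3 : finrank K (LinearMap.ker r) ≤ finrank K (LinearMap.ker f) :=
      LinearMap.finrank_le_finrank_of_injective
        (f := ((LinearMap.ker (f ^ (a + 1))).subtype ∘ₗ (LinearMap.ker r).subtype).codRestrict (LinearMap.ker f)
          fun v => congrArg Subtype.val v.2)
        fun v w h => Subtype.ext (Subtype.ext (congrArg (fun z : LinearMap.ker f => (z : W)) h))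
    rw [Nat.succ_mul]
    omega

theorem unip {p : ℕ} [Fact p.Prime] [CharP K p] {x : T} {j : ℕ} (h : x ^ p ^ j = 1) : finrank K W ≤ p ^ j * dfx (ρ x) := by
  have h1 := ker_pow_le (ρ x - 1) (p ^ j)
  rcases subsingleton_or_nontrivial W with h0 | h0
  · rw [finrank_zero_of_subsingleton]
    exact Nat.zero_le _
  · have : CharP (End K W) p := charP_of_injective_algebraMap (algebraMap K _).injective p
    rwa [sub_pow_char_pow_of_commute p j (Commute.one_right _), ← map_pow, h, map_one, one_pow, sub_self,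
      LinearMap.ker_zero, finrank_top] at h1

/-- the sheet from a representation -/
theorem lin {p k q : ℕ} [hp : Fact p.Prime] [CharP K p] {d : T → ℕ} (hd : ∀ x, d x = dfx (ρ x))
    (hN : finrank K W = 7 * (k + 1)) (A : ElA p k q T d) (L : ElL p k q T) : Lin p k T d := by
  obtain rfl : d = fun x => dfx (ρ x) := funext hd
  have h2 : p ≠ 2 → (2 : K) ≠ 0 := fun h e => h ((Nat.prime_dvd_prime_iff_eq hp.out Nat.prime_two).1
    ((CharP.cast_eq_zero_iff K p 2).1 (by exact_mod_cast e)))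
  refine ⟨fun hk r E hE h5 hr hc => ?_, fun hk h V hV h4 t ht h3 h0 => ?_,
    fun h E hE h8 g hg h7 => perm7 ρ (h2 h) hN (A.inv h) hE h8 (L.eight h E hE h8) hg h7,
    fun h E hE h8 t ht h3 a ha h1 hc => perm6 ρ (h2 h) hN (A.inv h) hE h8 (L.eight h E hE h8) ht h3 ha h1 hc,
    fun h E hE h8 x y hxy => scott8 ρ (h2 h) hN (A.inv h) hE h8 hxy, fun x j h => hN ▸ unip ρ h⟩
  · by_contra h0
    push Not at h0
    subst hk
    have := Fact.mk hE.prime
    have h1 := pure ρ hE (c := 10) (fun e => hr ((Nat.prime_dvd_prime_iff_eq hp.out hE.prime).1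
      ((CharP.cast_eq_zero_iff K p r).1 e)).symm) fun x hx h1 => by
      have h3 : orderOf x = r := orderOf_eq_prime (hE.pow x hx) h1
      have h4 := h0 x hx h1
      rcases A.cls x (h3 ▸ (Nat.coprime_primes hE.prime hp.out).2 hr) h1 with e | e | e | e
      · omega
      · omega
      · exact e.1
      · have := Nat.le_of_dvd two_pos (h3 ▸ orderOf_dvd_of_pow_eq_one e.2)
        omega
    rw [hN, hc] at h1
    push_cast at h1
    have h3 : (r : ℤ) ∣ 18 := ⟨(r - 1) * finrank K (Fx ρ E) - (r * 10 - 28), mul_left_cancel₀ (a := (r : ℤ)) (by omega)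
      (by linear_combination -h1)⟩
    have h4 : r ∣ 2 * 3 ^ 2 := by exact_mod_cast h3
    rcases (Nat.Prime.dvd_mul hE.prime).1 h4 with e | e
    · have := Nat.le_of_dvd two_pos e
      omega
    · have := Nat.le_of_dvd three_pos (hE.prime.dvd_of_dvd_pow e)
      omega
  · subst hk
    exact b3 ρ (h2 h) hN (A.inv h) hV h4 ht h3 h0

theorem dd_eq {D : ChevalleyDatum} {p : ℕ} [Fact p.Prime] (y : DS.Ex.YY D p) : DS.Nt.dd p y = dfx (DS.Nt.ad D p y) := by
  rw [dfx, DS.Nt.dd, DS.NT.ev, End.eigenspace_def, one_smul]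
  rfl

end Ln

/-- **[Lin]** -/
theorem boxLin : BoxLin := by
  rintro p _ k q T _ _ _ d (⟨rfl, -, ⟨m, -, -, h⟩, -⟩ | ⟨rfl, -, ⟨m, -, -, h⟩, -⟩) A L
  · exact Ln.lin ((DS.Nt.ad _ p).comp m.ι) (fun x => (h x).trans (Ln.dd_eq _))
      ((finrank_fintype_fun_eq_card _).trans (by decide +kernel)) A L
  · exact Ln.lin ((DS.Nt.ad _ p).comp m.ι) (fun x => (h x).trans (Ln.dd_eq _))
      ((finrank_fintype_fun_eq_card _).trans (by decide +kernel)) A L

end Cfsg.Agent.N2.G2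

private theorem dce_58ce73818362 : _root_.True := by
  try have : _root_.True := by simp only [_root_.Cfsg.Agent.DS.Nt.dd.eq_1]
  try have : _root_.True := by simp only [_root_.Cfsg.Agent.FP3.dfx.eq_1]
  exact _root_.True.intro
end

-- part: N2/G2/WhyL
section
set_option linter.all false
open scoped Cfsg.Agent.FastGrp

/-!
# N2 (S3519), `³D₄(q)`, box [Why]: the adjoint module (helper75)
-/

set_option autoImplicit false
set_option linter.unusedSectionVars false

namespace Cfsg.Agent.N2.G2.Wy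

open CoxeterSystem Cfsg Cfsg.Lie Cfsg.Lie.ChevalleyDatum Matrix Module Cfsg.Agent.FP3
open Cfsg.Agent.ChevalleyStructure Cfsg.Agent.ChevalleyStructure.Elts Cfsg.Agent.ChevalleyStructure.CoxeterGeom
  Cfsg.Agent.ChevalleyStructure.CoxeterGeomTypes
open Cfsg.Agent.Tits.Roots Cfsg.Agent.Nodes Cfsg.Agent.Nodes.RGDChev Cfsg.Agent.Nodes.Coroot
open Cfsg.Agent.KFacts.RgdField Cfsg.Agent.KFacts.RgdChevCoord
open Cfsg.Agent.H469.Exc Cfsg.Agent.H129.TorusChar Cfsg.Agent.DS.Ex Cfsg.Agent.DS.Ex.Tor Cfsg.Agent.DS.Nt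
  Cfsg.Agent.N2.Ex

section Lin

variable {K L G : Type} [Field K] [AddCommGroup L] [Module K L] [Group G] (ρ : G →* End K L)

/-- the elements which fix `W` and act trivially modulo `V` -/
def Gm (W V : Submodule K L) : Subgroup G where
  carrier := {g | (∀ v ∈ W, ρ g v = v) ∧ ∀ v, ρ g v - v ∈ V}
  one_mem' := ⟨fun v _ => by rw [map_one, End.one_apply], fun v => by
    rw [map_one, End.one_apply, sub_self]
    exact zero_mem _⟩
  mul_mem' := fun {a b} ha hb => ⟨fun v hv => by rw [map_mul, End.mul_apply, hb.1 v hv, ha.1 v hv], fun v => by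
    rw [map_mul, End.mul_apply, ← sub_add_sub_cancel _ (ρ b v)]
    exact add_mem (ha.2 _) (hb.2 _)⟩
  inv_mem' := fun {a} ha => ⟨fun v hv => by
    conv_lhs => rw [← ha.1 v hv]
    rw [← End.mul_apply, ← map_mul, inv_mul_cancel, map_one, End.one_apply], fun v => by
    have h := neg_mem (ha.2 (ρ a⁻¹ v))
    rwa [← End.mul_apply, ← map_mul, mul_inv_cancel, map_one, End.one_apply, neg_sub] at h⟩

theorem scott_key [FiniteDimensional K L] {x y s : G} (hs : s ∈ Subgroup.closure {x, y}) {C : Subgroup G} (f : L →ₗ[K] K)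
    (h : L) (hC : C ≤ Gm ρ (fixSp (ρ s) ⊓ LinearMap.ker f) (comSp (ρ s) ⊔ Submodule.span K {h}))
    (ht : Subgroup.closure {x, y} ⊔ C = ⊤) {n : ℕ} (h1 : ∀ X : Submodule K L, (∀ g, ∀ v ∈ X, ρ g v = v) → finrank K X ≤ n)
    (h2 : ∀ V : Submodule K L, (∀ g v, ρ g v - v ∈ V) → V = ⊤) :
    dfx (ρ x) + dfx (ρ y) + dfx (ρ (x * y)) ≤ finrank K L + n + 2 := by
  have h3 := scott_corr (ρ x) (ρ y)
  have h4 : Subgroup.closure {x, y} ≤ Gm ρ (fixSp (ρ x) ⊓ fixSp (ρ y)) (comSp (ρ x) ⊔ comSp (ρ y)) :=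
    (Subgroup.closure_le _).2 (by
      rintro _ (rfl | rfl)
      exacts [⟨fun v hv => mem_fixSp.1 hv.1, fun v => Submodule.mem_sup_left ⟨v, rfl⟩⟩,
        ⟨fun v hv => mem_fixSp.1 hv.2, fun v => Submodule.mem_sup_right ⟨v, rfl⟩⟩])
  generalize fixSp (ρ x) ⊓ fixSp (ρ y) = A at h3 h4
  generalize comSp (ρ x) ⊔ comSp (ρ y) = B at h3 h4
  have h5 : ⊤ ≤ Gm ρ (A ⊓ LinearMap.ker f) (B ⊔ Submodule.span K {h}) := ht ▸ sup_le
    (fun g hg => ⟨fun v hv => (h4 hg).1 v hv.1, fun v => Submodule.mem_sup_left ((h4 hg).2 v)⟩)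
    fun g hg => ⟨fun v hv => (hC hg).1 v ⟨mem_fixSp.2 ((h4 hs).1 v hv.1), hv.2⟩, fun v =>
      (sup_le_sup_right (show comSp (ρ s) ≤ B by rintro _ ⟨w, rfl⟩; exact (h4 hs).2 w) _) ((hC hg).2 v)⟩
  have h6 := h1 _ fun g => (h5 (Subgroup.mem_top g)).1
  have h7 := Submodule.finrank_add_le_finrank_add_finrank B (Submodule.span K {h})
  rw [h2 _ fun g => (h5 (Subgroup.mem_top g)).2, finrank_top] at h7
  have h8 : finrank K (Submodule.span K {h}) ≤ 1 := (finrank_span_le_card _).trans (by simp)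
  have h9 := Submodule.finrank_quotient_add_finrank B
  have h10 := LinearMap.finrank_range_add_finrank_ker (f.domRestrict A)
  rw [LinearMap.ker_domRestrict, ← Submodule.finrank_map_subtype_eq, Submodule.map_comap_subtype] at h10
  have h11 := Submodule.finrank_le (LinearMap.range (f.domRestrict A))
  rw [finrank_self] at h11
  rw [map_mul]
  omega

end Lin

variable {D : ChevalleyDatum} {l : ℕ} {M : CoxeterMatrix (Fin l)} (hp : IsType D l M) {p : ℕ} [Fact p.Prime]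

/-- the value of a root on the toral part -/
noncomputable def rf (a : Fin l → ℤ) : (D.Idx → KK p) →ₗ[KK p] KK p where
  toFun v := K.rl hp v a
  map_add' v w := K.rl_add hp v w a
  map_smul' c v := K.rl_smul hp c v a

/-- the coroot -/
noncomputable def hv (D : ChevalleyDatum) (p : ℕ) [Fact p.Prime] (r : ℕ) : D.Idx → KK p :=
  Sum.elim (fun i => (Columns.cor D r i : KK p)) fun _ => 0

variable {t : YY D p} (ht : t ∈ TT D (KK p))

include ht

theorem mem_fix {v : D.Idx → KK p} : v ∈ fixSp (ad D p t) ↔ ∀ i, cX hp t (K.wL D l i) ≠ 1 → v i = 0 := by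
  rw [mem_fixSp, K.ad_eq, K.mx_T hp ht, funext_iff]
  refine forall_congr' fun i => ?_
  rw [mulVec_diagonal]
  refine ⟨fun h h1 => of_not_not fun e => h1 ((mul_eq_right₀ e).1 h), fun h => ?_⟩
  by_cases e : cX hp t (K.wL D l i) = 1
  · rw [e, one_mul]
  · rw [h e, mul_zero]

theorem mem_com {v : D.Idx → KK p} (h : ∀ i, cX hp t (K.wL D l i) = 1 → v i = 0) : v ∈ comSp (ad D p t) := by
  refine ⟨fun i => v i / (cX hp t (K.wL D l i) - 1), funext fun i => ?_⟩
  rw [LinearMap.sub_apply, End.one_apply, Pi.sub_apply, K.ad_eq, K.mx_T hp ht, mulVec_diagonal]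
  by_cases e : cX hp t (K.wL D l i) = 1
  · rw [h i e, zero_div, mul_zero, sub_zero]
  · have := sub_ne_zero.2 e
    field_simp

theorem T_mem {u : YY D p} (hu : u ∈ TT D (KK p)) (h : ∀ b, RT hp b → cX hp t b = 1 → cX hp u b = 1)
    (W V : Submodule (KK p) (D.Idx → KK p)) : u ∈ Gm (ad D p) (fixSp (ad D p t) ⊓ W) (comSp (ad D p t) ⊔ V) := by
  have h1 : ∀ i, cX hp t (K.wL D l i) = 1 → cX hp u (K.wL D l i) = 1 := by
    rintro (i | s) e
    exacts [(isMC_cX hp hu).zero, h _ (K.rt_vec hp s) e]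
  refine ⟨fun v hv => mem_fixSp.1 ((mem_fix hp hu).2 fun i e => (mem_fix hp ht).1 hv.1 i fun e' => e (h1 i e')), fun v =>
    Submodule.mem_sup_left (mem_com hp ht fun i e => ?_)⟩
  rw [Pi.sub_apply, K.ad_eq, K.mx_T hp hu, mulVec_diagonal, h1 i e, one_mul, sub_self]

omit ht in
theorem wt (hs : ∀ a b, RT hp a → RT hp b → cpr M.toCoxeterSystem hp.isCartan a b = cpr M.toCoxeterSystem hp.isCartan b a)
    {a ν μ : Fin l → ℤ} (ha : RT hp a) (hν : RT hp ν) (h0 : cpr M.toCoxeterSystem hp.isCartan ν a = 0) (hμ : μ = 0 ∨ RT hp μ)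
    {m : ℕ} (hm : 1 ≤ m) (e : μ = ν + (m : ℤ) • a) : False := by
  have := finite_W hp M.toCoxeterSystem
  have h1 : cpr M.toCoxeterSystem hp.isCartan μ a = m * 2 := by
    rw [e, cpr_add _ _ _ _ ha, cpr_smul _ _ _ _ ha, h0, cpr_self _ _ ha, zero_add]
  rcases hμ with rfl | hμ
  · have h2 := cpr_smul M.toCoxeterSystem hp.isCartan 0 a ha
    rw [zero_smul, h1] at h2
    omega
  by_cases h2 : μ = a
  · rw [h2, cpr_self _ _ ha] at h1
    rw [show (m : ℤ) = 1 by omega, one_smul, h2] at e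
    exact hν.ne_zero (by simpa using e.symm)
  by_cases h3 : μ = -a
  · rw [h3, cpr_neg _ _ _ ha, cpr_self _ _ ha] at h1
    omega
  have h4 := DL.Base.cpr_mul_lt hμ ha h2 h3
  rw [hs a μ ha hμ, h1] at h4
  have h5 : (1 : ℤ) ≤ m := by exact_mod_cast hm
  nlinarith

omit ht in
theorem wL_or (i : D.Idx) : K.wL D l i = 0 ∨ RT hp (K.wL D l i) := by
  rcases i with i | s
  exacts [Or.inl rfl, Or.inr (K.rt_vec hp s)]

theorem X_mem (hs : ∀ a b, RT hp a → RT hp b → cpr M.toCoxeterSystem hp.isCartan a b = cpr M.toCoxeterSystem hp.isCartan b a)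
    (r : Fin D.nroots) (h : ∀ b, RT hp b → cX hp t b = 1 → cpr M.toCoxeterSystem hp.isCartan b (vec D l r) = 0) :
    XX D l (KK p) (vec D l r) ≤ Gm (ad D p) (fixSp (ad D p t) ⊓ LinearMap.ker (rf hp (vec D l r)))
      (comSp (ad D p t) ⊔ Submodule.span (KK p) {hv D p r}) := by
  have := finite_W hp M.toCoxeterSystem
  intro x hx
  have ha := K.rt_vec hp r
  have k : ∀ v, ad D p x v - v = (K.mx x - 1) *ᵥ v := fun v => by rw [sub_mulVec, one_mulVec, K.ad_eq]
  refine ⟨fun v ⟨h1, h2⟩ => ?_, fun v => ?_⟩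
  · have h3 : v = Sum.elim (fun j => v (Sum.inl j)) (fun _ => 0) + Sum.elim (fun _ => 0) fun s => v (Sum.inr s) := by
      funext i
      rcases i with i | s <;> simp
    have h4 : ad D p x (Sum.elim (fun j => v (Sum.inl j)) fun _ => 0) = Sum.elim (fun j => v (Sum.inl j)) fun _ => 0 := by
      obtain ⟨u, rfl⟩ := (K.mem_XX hp ha).1 hx
      rw [K.ad_xc_T hp r u fun _ => rfl, show K.rl hp (Sum.elim (fun j => v (Sum.inl j)) fun _ => 0) (vec D l r) = 0 from h2,
        zero_mul, Pi.single_zero, sub_zero]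
    rw [h3, map_add, h4, add_right_inj, ← sub_eq_zero, k]
    funext i
    rw [mulVec, dotProduct]
    refine Finset.sum_eq_zero fun j _ => ?_
    rcases j with j | s
    · exact mul_zero _
    by_contra e
    obtain ⟨e1, e2⟩ := mul_ne_zero_iff.1 e
    obtain ⟨m, hm, e3⟩ := K.xc_sub_entry hp ha hx e1
    exact wt hp hs ha (K.rt_vec hp s) (h _ (K.rt_vec hp s) (of_not_not fun e4 =>
      e2 ((mem_fix hp ht).1 h1 (Sum.inr s) e4))) (wL_or hp i) hm e3
  · obtain ⟨u, rfl⟩ := (K.mem_XX hp ha).1 hx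
    let r' : Fin D.nroots := ⟨D.neg r, NPerm.neg_lt hp.inList r.2⟩
    rw [← sub_add_cancel (ad D p _ v - v) ((u * v (Sum.inr r')) • hv D p r)]
    refine Submodule.add_mem_sup (mem_com hp ht fun i e => ?_) (Submodule.smul_mem _ _ (Submodule.subset_span rfl))
    rw [k]
    rcases i with i | s
    · have h1 : K.mx (xc hp (vec D l r) u : YY D p) = D.xMat (KK p) r u := by
        rw [← H605.MX.xs_eq_xc hp r.2]
        exact dif_pos r.2
      have h2 : r' ≠ r := fun e' => ha.ne_zero (by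
        have h3 := vec_neg hp r.2
        rw [show D.neg r = r from congrArg Fin.val e'] at h3
        funext j
        have := congrFun h3 j
        rw [Pi.neg_apply] at this
        rw [Pi.zero_apply]
        omega)
      have h3 : ∀ s : Fin D.nroots, (s.val = D.negIdx.getD r.val 0) ↔ s = r' := fun s =>
        ⟨fun e => Fin.ext e, fun e => congrArg Fin.val e⟩
      rw [Pi.sub_apply, h1, sub_mulVec, one_mulVec, Pi.sub_apply, mulVec, dotProduct, Fintype.sum_sum_type,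
        Finset.sum_eq_single i (fun j _ e' => by rw [Columns.xMat_inl_inl, if_neg e'.symm, zero_mul]) (by simp),
        Finset.sum_eq_single r' (fun s _ e' => by rw [Columns.xMat_inl_inr, if_neg ((h3 s).not.2 e'), ite_self, zero_mul])
          (by simp), Columns.xMat_inl_inl, if_pos rfl, Columns.xMat_inl_inr, if_neg h2, if_pos ((h3 _).2 rfl)]
      show _ - u * v (Sum.inr r') * (Columns.cor D r i : KK p) = 0
      ring
    · rw [Pi.sub_apply, show ((u * v (Sum.inr r')) • hv D p r) (Sum.inr s) = 0 from mul_zero _, sub_zero, mulVec, dotProduct]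
      refine Finset.sum_eq_zero fun j _ => ?_
      by_contra e'
      obtain ⟨m, hm, e3⟩ := K.xc_sub_entry hp ha hx (mul_ne_zero_iff.1 e').1
      refine wt hp hs ha (K.rt_vec hp s).neg (μ := -K.wL D l j) (by
        rw [cpr_neg _ _ _ ha, h _ (K.rt_vec hp s) e, neg_zero]) ((wL_or hp j).imp neg_eq_zero.2 IsRoot.neg) hm ?_
      rw [show vec D l s = _ from e3]
      abel

end Cfsg.Agent.N2.G2.Wy
end

-- part: N2/G2/Loc2A
section
prune_inst 0x243044401c80020000000512100022446400059000200001f8c00c460a07f3428040010046801c08104a22800000000000100050400000000a0004000004000090aa9004b0180d0c46008f803087590c00000000000000000000000000051004000000000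
set_option linter.all false
open scoped Cfsg.Agent.FastGrp

/-!
# N2, `G₂(q)` and `³D₄(q)`, the `2`-local subgroups: numbers and groups of automorphisms of `2³` (helper35)
-/

set_option autoImplicit false

namespace Cfsg.Agent.N2.G2.L35

open Subgroup

/-! ### numbers -/

theorem tor_le {k q n : ℕ} (h : Tor k q n) : n ≤ tau k q := by
  have h1 : ∀ a b : ℕ, a - b ≤ a := Nat.sub_le
  have h2 : q - 1 ≤ q + 1 := by omega
  have h3 : q ^ 3 - 1 ≤ q ^ 3 + 1 := by omega
  have h4 : (q ^ 3 + 1) * (q + 1) ≤ (q ^ 2 + q + 1) ^ 2 :=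
    Nat.le.intro (k := q ^ 3 + 3 * q ^ 2 + q) (by ring)
  rcases h with ⟨rfl, h⟩ | ⟨rfl, h⟩
  · have e : tau 1 q = (q + 1) ^ 2 := if_pos rfl
    have e' : (q + 1) ^ 2 = q ^ 2 + 2 * q + 1 := by ring
    rw [e]
    rcases h with rfl | rfl | rfl | rfl | rfl
    · exact Nat.pow_le_pow_left h2 2
    · exact le_rfl
    · omega
    · omega
    · omega
  · have e : tau 3 q = (q ^ 2 + q + 1) ^ 2 := if_neg (by decide)
    rw [e]
    rcases h with rfl | rfl | rfl | rfl | rfl | rfl | rfl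
    · exact (Nat.mul_le_mul h3 h2).trans h4
    · exact (Nat.mul_le_mul h3 le_rfl).trans h4
    · exact (Nat.mul_le_mul le_rfl h2).trans h4
    · exact h4
    · exact le_rfl
    · exact Nat.pow_le_pow_left (by omega) 2
    · have e' : (q ^ 2 + q + 1) ^ 2 = q ^ 4 + 1 + (2 * q ^ 3 + 3 * q ^ 2 + 2 * q) := by ring
      omega

theorem ord_one (q : ℕ) : ord 1 q = q ^ 6 * (q ^ 2 - 1) * (q ^ 6 - 1) := if_pos rfl

theorem ord_three (q : ℕ) : ord 3 q = q ^ 12 * (q ^ 2 - 1) * (q ^ 6 - 1) * (q ^ 8 + q ^ 4 + 1) := if_neg (by decide)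

theorem tau_one (q : ℕ) : tau 1 q = (q + 1) ^ 2 := if_pos rfl

theorem tau_three (q : ℕ) : tau 3 q = (q ^ 2 + q + 1) ^ 2 := if_neg (by decide)

theorem n_inv {k q : ℕ} (hk : k = 1 ∨ k = 3) (hq : 3 ≤ q) :
    tau k q ^ 3 * (q * (q ^ 2 - 1) * (q ^ k * ((q ^ k) ^ 2 - 1))) ≤ ord k q := by
  have h : ∀ j, 1 ≤ q ^ j := fun j => Nat.one_le_pow _ _ (by omega)
  have h' : 1 ≤ (q ^ k) ^ 2 := Nat.one_le_pow _ _ (h k)
  obtain ⟨t, rfl⟩ := Nat.exists_eq_add_of_le hq
  rcases hk with rfl | rfl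
  · rw [ord_one, tau_one]
    zify [h 2, h 6, h']
    rw [← sub_nonneg]
    ring_nf
    positivity
  · rw [ord_three, tau_three]
    zify [h 2, h 6, h']
    rw [← sub_nonneg]
    ring_nf
    positivity

theorem n_cm {q : ℕ} (hq : 3 ≤ q) : cm 3 q ^ 3 * (24 * tau 3 q) ≤ ord 3 q := by
  have h : ∀ j, 1 ≤ q ^ j := fun j => Nat.one_le_pow _ _ (by omega)
  obtain ⟨t, rfl⟩ := Nat.exists_eq_add_of_le hq
  rw [ord_three, tau_three, cm]
  zify [h 2, h 6]
  rw [← sub_nonneg]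
  ring_nf
  positivity

theorem tau_le_cm {q : ℕ} (hq : 3 ≤ q) : tau 3 q ≤ cm 3 q := by
  have h : ∀ j, 1 ≤ q ^ j := fun j => Nat.one_le_pow _ _ (by omega)
  obtain ⟨t, rfl⟩ := Nat.exists_eq_add_of_le hq
  rw [tau_three, cm]
  zify [h 2]
  rw [← sub_nonneg]
  ring_nf
  positivity

theorem n_four {q : ℕ} (hq : 3 ≤ q) : tau 1 q ^ 3 * (12 * (q + 1) ^ 2) ≤ ord 1 q := by
  have h : ∀ j, 1 ≤ q ^ j := fun j => Nat.one_le_pow _ _ (by omega)
  obtain ⟨t, rfl⟩ := Nat.exists_eq_add_of_le hq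
  rw [ord_one, tau_one]
  zify [h 2, h 6]
  rw [← sub_nonneg]
  ring_nf
  positivity

theorem n_eight1 {q : ℕ} (hq : 4 ≤ q) : tau 1 q ^ 3 * 1344 ≤ ord 1 q := by
  have h : ∀ j, 1 ≤ q ^ j := fun j => Nat.one_le_pow _ _ (by omega)
  obtain ⟨t, rfl⟩ := Nat.exists_eq_add_of_le hq
  rw [ord_one, tau_one]
  zify [h 2, h 6]
  rw [← sub_nonneg]
  ring_nf
  positivity

theorem n_eight3 {q : ℕ} (hq : 3 ≤ q) : tau 3 q ^ 3 * 1344 ≤ ord 3 q := by
  have h : ∀ j, 1 ≤ q ^ j := fun j => Nat.one_le_pow _ _ (by omega)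
  obtain ⟨t, rfl⟩ := Nat.exists_eq_add_of_le hq
  rw [ord_three, tau_three]
  zify [h 2, h 6]
  rw [← sub_nonneg]
  ring_nf
  positivity

theorem sixteen {k q : ℕ} (hq : Odd q) : 16 ∣ ord k q := by
  have h1 : 8 ∣ q ^ 2 - 1 := by
    obtain ⟨t, rfl⟩ := hq
    obtain ⟨u, hu⟩ := Nat.even_mul_succ_self t
    refine ⟨u, Nat.sub_eq_of_eq_add ?_⟩
    calc (2 * t + 1) ^ 2 = 4 * (t * (t + 1)) + 1 := by ring
      _ = _ := by rw [hu]; ring
  have h2 : 2 ∣ q ^ 6 - 1 := by
    obtain ⟨u, hu⟩ := hq.pow (n := 6)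
    exact ⟨u, by omega⟩
  have h3 : 16 ∣ (q ^ 2 - 1) * (q ^ 6 - 1) := Nat.mul_dvd_mul h1 h2
  unfold ord
  split_ifs
  · rw [mul_assoc]
    exact h3.mul_left _
  · rw [mul_assoc (q ^ 12)]
    exact (h3.mul_left _).mul_right _

/-- a prime divisor other than `3` -/
theorem exists_prime {n : ℕ} (h3 : 3 < n) (h9 : ¬ 9 ∣ n) : ∃ l : ℕ, l.Prime ∧ l ≠ 3 ∧ l ∣ n := by
  by_contra hc
  push Not at hc
  have h1 : n = 3 ^ n.primeFactorsList.length :=
    Nat.eq_prime_pow_of_unique_prime_dvd (by omega) fun {d} hd hn => by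
      by_contra h
      exact hc d hd h hn
  generalize n.primeFactorsList.length = j at h1
  rcases j with _ | _ | j
  · omega
  · omega
  · exact h9 ⟨3 ^ j, by rw [h1]; ring⟩

/-- the even orders of tori in `³D₄(q)` -/
theorem exists_l {q n : ℕ} (hq : 3 ≤ q) (ho : Odd q) (h : Tor 3 q n) (he : 2 ∣ n) :
    ∃ l : ℕ, l.Prime ∧ l ≠ 2 ∧ l ∣ n ∧ ¬ l ∣ q - 1 ∧ ¬ l ∣ q + 1 := by
  obtain ⟨s, rfl⟩ : ∃ s, q = s + 1 := ⟨q - 1, by omega⟩
  have hs : Even s := by simpa [parity_simps] using ho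
  have e1 : (s + 1) ^ 2 - (s + 1) + 1 = s ^ 2 + s + 1 := by
    rw [Nat.sub_eq_of_eq_add (c := s ^ 2 + s) (by ring)]
  have e2 : (s + 1) ^ 3 - 1 = s * ((s + 1) ^ 2 + (s + 1) + 1) := Nat.sub_eq_of_eq_add (by ring)
  have e3 : (s + 1) ^ 3 + 1 = (s + 2) * (s ^ 2 + s + 1) := by ring
  have o1 : ∀ x : ℕ, Odd (x ^ 2 + x + 1) := fun x => by
    have := Nat.even_mul_succ_self x
    rw [show x ^ 2 + x + 1 = x * (x + 1) + 1 by ring]
    exact this.add_one
  have n9 : ∀ x : ℕ, ¬ 9 ∣ x ^ 2 + x + 1 := fun x hx => by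
    have h1 : (x ^ 2 + x + 1) % 9 = ((x % 9) ^ 2 + x % 9 + 1) % 9 := by simp [Nat.add_mod, Nat.pow_mod]
    have h2 : x % 9 < 9 := Nat.mod_lt _ (by decide)
    have h3 := Nat.mod_eq_zero_of_dvd hx
    rw [h1] at h3
    generalize x % 9 = y at h2 h3
    interval_cases y <;> simp at h3
  have key : ∀ x : ℕ, x = s ∨ x = s + 1 → x ^ 2 + x + 1 ∣ n →
      ∃ l : ℕ, l.Prime ∧ l ≠ 2 ∧ l ∣ n ∧ ¬ l ∣ s + 1 - 1 ∧ ¬ l ∣ s + 1 + 1 := fun x hx hd => by
    obtain ⟨l, hl, l3, hd'⟩ := exists_prime (n := x ^ 2 + x + 1) (by rcases hx with rfl | rfl <;> nlinarith) (n9 x)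
    have k1 : ¬ l ∣ 1 := hl.not_dvd_one
    have k3 : ¬ l ∣ 3 := fun k => l3 ((Nat.prime_dvd_prime_iff_eq hl Nat.prime_three).1 k)
    refine ⟨l, hl, ?_, hd'.trans hd, fun k => ?_, fun k => ?_⟩
    · rintro rfl
      exact (Nat.not_even_iff_odd.2 (o1 x)) (even_iff_two_dvd.2 hd')
    · rw [Nat.add_sub_cancel] at k
      rcases hx with rfl | rfl
      · exact k1 ((Nat.dvd_add_right (k.mul_right (x + 1))).1 (by rwa [show x * (x + 1) + 1 = x ^ 2 + x + 1 by ring]))
      · exact k3 ((Nat.dvd_add_right (k.mul_right (s + 3))).1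
          (by rwa [show s * (s + 3) + 3 = (s + 1) ^ 2 + (s + 1) + 1 by ring]))
    · rcases hx with rfl | rfl
      · refine k3 ((Nat.dvd_add_right (k.mul_right x)).1 ?_)
        rw [show (x + 1 + 1) * x + 3 = (x ^ 2 + x + 1) + (x + 1 + 1) by ring]
        exact Nat.dvd_add hd' k
      · exact k1 ((Nat.dvd_add_right (k.mul_right (s + 1))).1
          (by rwa [show (s + 1 + 1) * (s + 1) + 1 = (s + 1) ^ 2 + (s + 1) + 1 by ring]))
  have no : ∀ {m : ℕ}, Odd m → n = m → False := fun hm e =>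
    (Nat.not_even_iff_odd.2 hm) (even_iff_two_dvd.2 (e ▸ he))
  rcases h with ⟨h, -⟩ | ⟨-, h⟩
  · exact absurd h (by decide)
  rcases h with h | h | h | h | h | h | h
  · exact key _ (Or.inr rfl) (h ▸ e2 ▸ (Dvd.intro_left _ rfl).mul_right _)
  · exact key _ (Or.inr rfl) (h ▸ e2 ▸ (Dvd.intro_left _ rfl).mul_right _)
  · exact key _ (Or.inl rfl) (h ▸ e3 ▸ (Dvd.intro_left _ rfl).mul_right _)
  · exact key _ (Or.inl rfl) (h ▸ e3 ▸ (Dvd.intro_left _ rfl).mul_right _)
  · exact (no (o1 _).pow h).elim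
  · exact (no (e1 ▸ (o1 s).pow) h).elim
  · refine (no ?_ h).elim
    obtain ⟨a, ha⟩ := ho.pow (n := 4)
    obtain ⟨b, hb⟩ := ho.pow (n := 2)
    have : (s + 1) ^ 2 ≤ (s + 1) ^ 4 := Nat.pow_le_pow_right (by omega) (by decide)
    exact ⟨a - b, by omega⟩

/-- the case `n = 2 ^ b ≥ 4` -/
theorem two_part {q n b : ℕ} (hq : 3 ≤ q) (hn : n = q - 1 ∨ n = q + 1) (hb : n = 2 ^ (b + 2)) :
    ∃ u, Odd u ∧ (q - 1) * (q + 1) = 2 * n * u := by
  have h4 : n = 4 * 2 ^ b := by rw [hb]; ring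
  have h5 : 0 < 2 ^ b := by positivity
  generalize 2 ^ b = c at h4 h5
  rcases hn with hn | hn
  · refine ⟨2 * c + 1, ⟨c, rfl⟩, ?_⟩
    rw [← hn, show q + 1 = 2 * (2 * c + 1) by omega]
    ring
  · obtain ⟨c, rfl⟩ : ∃ c', c = c' + 1 := ⟨c - 1, by omega⟩
    refine ⟨2 * c + 1, ⟨c, rfl⟩, ?_⟩
    rw [← hn, show q - 1 = 2 * (2 * c + 1) by omega]
    ring

theorem odd_index {q n u i : ℕ} (hq : Odd q) (hn : 0 < n) (hu : Odd u) (h : (q - 1) * (q + 1) = 2 * n * u)
    (hi : i * (12 * n ^ 2) = ord 1 q) : ¬ 2 ∣ i := by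
  have h0 : 1 ≤ q := hq.pos
  obtain ⟨s, rfl⟩ : ∃ s, q = s + 1 := ⟨q - 1, by omega⟩
  rw [Nat.add_sub_cancel] at h
  have e1 : (s + 1) ^ 2 - 1 = s * (s + 1 + 1) := Nat.sub_eq_of_eq_add (by ring)
  have e2 : (s + 1) ^ 6 - 1 = s * (s + 1 + 1) * ((s + 1) ^ 4 + (s + 1) ^ 2 + 1) := Nat.sub_eq_of_eq_add (by ring)
  rw [ord_one, e1, e2, h] at hi
  have h1 : 3 * i = (s + 1) ^ 6 * u ^ 2 * ((s + 1) ^ 4 + (s + 1) ^ 2 + 1) :=
    Nat.eq_of_mul_eq_mul_right (m := 4 * n ^ 2) (by positivity) (by linear_combination hi)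
  have h2 : Odd (3 * i) := h1 ▸ (hq.pow.mul hu.pow).mul ((hq.pow.add_odd hq.pow).add_one)
  exact fun k => (Nat.not_even_iff_odd.2 h2) (even_iff_two_dvd.2 (k.mul_left 3))

/-! ### automorphisms of `2³` -/

section eight

variable {V : Type*} [CommGroup V] [Finite V]

theorem four_le (hsq : ∀ v : V, v ^ 2 = 1) (h8 : Nat.card V = 8) (X : Subgroup (MulAut V))
    (hirr : ∀ W : Subgroup V, (∀ σ ∈ X, ∀ w ∈ W, σ w ∈ W) → W = ⊥ ∨ W = ⊤) (U : Finset V) (h1 : 1 ∉ U)
    (hU : ∀ σ ∈ X, ∀ w ∈ U, σ w ∈ U) (hne : U.Nonempty) : 4 ≤ U.card := by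
  classical
  obtain ⟨a, ha⟩ := hne
  have rk : ∀ S : Finset V, closure (S : Set V) = ⊤ → 3 ≤ S.card := fun S hS => by
    by_contra hc
    have k1 := card_dvd_exponent_pow_rank' V hsq
    have k2 := Group.rank_le hS
    have k3 : 2 ^ Group.rank V ≤ 2 ^ 2 := Nat.pow_le_pow_right (by decide) (by omega)
    have := Nat.le_of_dvd (by positivity) k1
    omega
  have hc : closure (U : Set V) = ⊤ := (hirr _ fun σ hσ w hw => by
    have k : closure (U : Set V) ≤ (closure (U : Set V)).comap σ.toMonoidHom :=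
      (closure_le _).2 fun y hy => subset_closure (hU σ hσ y hy)
    exact k hw).resolve_left fun k => h1 (mem_bot.1 (k ▸ subset_closure ha : a ∈ (⊥ : Subgroup V)) ▸ ha)
  have hp : ∏ x ∈ U, x = 1 := by
    have k1 : ∀ σ ∈ X, σ (∏ x ∈ U, x) = ∏ x ∈ U, x := fun σ hσ => by
      rw [map_prod]
      refine Finset.prod_bij (fun x _ => σ x) (fun x hx => hU σ hσ x hx) (fun x _ y _ e => σ.injective e)
        (fun y hy => ⟨σ⁻¹ y, hU _ (X.inv_mem hσ) y hy, by simp⟩) fun _ _ => rfl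
    rcases hirr (zpowers (∏ x ∈ U, x)) (fun σ hσ w hw => by
      obtain ⟨j, rfl⟩ := mem_zpowers_iff.1 hw
      rw [map_zpow, k1 σ hσ]
      exact zpow_mem (mem_zpowers _) j) with k | k
    · exact zpowers_eq_bot.1 k
    · have := rk {∏ x ∈ U, x} (by rwa [Finset.coe_singleton, ← zpowers_eq_closure])
      simp at this
  have k2 : closure ((U.erase a : Finset V) : Set V) = ⊤ := by
    refine top_le_iff.1 (hc ▸ (closure_le _).2 fun x hx => ?_)
    by_cases e : x = a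
    · rw [← Finset.mul_prod_erase U _ ha] at hp
      have k : (∏ x ∈ U.erase a, x)⁻¹ ∈ closure ((U.erase a : Finset V) : Set V) :=
        inv_mem (Subgroup.prod_mem _ fun y hy => Subgroup.subset_closure hy)
      rw [← eq_inv_of_mul_eq_one_left hp] at k
      exact e ▸ k
    · exact subset_closure (Finset.mem_coe.2 (Finset.mem_erase.2 ⟨e, hx⟩))
  have k3 := rk _ k2
  rw [Finset.card_erase_of_mem ha] at k3
  omega

theorem seven_dvd (hsq : ∀ v : V, v ^ 2 = 1) (h8 : Nat.card V = 8) (X : Subgroup (MulAut V))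
    (hirr : ∀ W : Subgroup V, (∀ σ ∈ X, ∀ w ∈ W, σ w ∈ W) → W = ⊥ ∨ W = ⊤) : 7 ∣ Nat.card X := by
  classical
  have := Fintype.ofFinite V
  have : Nontrivial V := Finite.one_lt_card_iff_nontrivial.1 (by omega)
  obtain ⟨a, ha⟩ := exists_ne (1 : V)
  let O : Finset V := (MulAction.orbit X a).toFinset
  have hO : ∀ x, x ∈ O ↔ ∃ σ ∈ X, σ a = x := fun x => by
    rw [Set.mem_toFinset, MulAction.mem_orbit_iff]
    exact ⟨fun ⟨σ, e⟩ => ⟨σ, σ.2, e⟩, fun ⟨σ, h, e⟩ => ⟨⟨σ, h⟩, e⟩⟩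
  have h1 : (1 : V) ∉ O := fun k => by
    obtain ⟨σ, -, e⟩ := (hO 1).1 k
    exact ha ((MulEquiv.map_eq_one_iff σ).1 e)
  have h2 : ∀ σ ∈ X, ∀ w ∈ O, σ w ∈ O := fun σ hσ w hw => by
    obtain ⟨τ, hτ, rfl⟩ := (hO w).1 hw
    exact (hO _).2 ⟨σ * τ, X.mul_mem hσ hτ, rfl⟩
  have h3 := four_le hsq h8 X hirr O h1 h2 ⟨a, (hO a).2 ⟨1, X.one_mem, rfl⟩⟩
  have h4 : (insert 1 O)ᶜ.card + (O.card + 1) = 8 := by
    rw [← Finset.card_insert_of_notMem h1, Finset.card_compl_add_card, ← h8, Nat.card_eq_fintype_card]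
  have h5 : O.card = 7 := by
    rcases (insert 1 O)ᶜ.eq_empty_or_nonempty with k | k
    · rw [k] at h4
      simpa using h4
    · have := four_le hsq h8 X hirr _ (by simp) (fun σ hσ w hw => by
        rw [Finset.mem_compl, Finset.mem_insert, not_or] at hw ⊢
        refine ⟨fun e => hw.1 ((MulEquiv.map_eq_one_iff σ).1 e), fun e => hw.2 ?_⟩
        simpa using h2 _ (X.inv_mem hσ) _ e) k
      omega
  have h6 : (MulAction.stabilizer X a).index = 7 := by
    rw [MulAction.index_stabilizer, ← h5, Set.ncard_eq_toFinset_card']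
  exact h6 ▸ index_dvd_card _

end eight

/-- a simple group of order `168` has no proper subgroup of order divisible by `14` -/
theorem top_of_fourteen {G : Type*} [Group G] [Finite G] [IsSimpleGroup G] (h : Nat.card G = 168) (X : Subgroup G)
    (h2 : 2 ∣ Nat.card X) (h7 : 7 ∣ Nat.card X) : X = ⊤ := by
  by_contra hne
  have : Fact (Nat.Prime 7) := ⟨by norm_num⟩
  have h1 := SmallSimple.Simple168Klein.index_ge_seven h _ hne
  have h3 := X.card_mul_index
  have h4 : Nat.card X = 14 := by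
    have k1 : Nat.card X * 7 ≤ 168 := by
      rw [← h, ← h3]
      exact Nat.mul_le_mul_left _ h1
    have k2 : 0 < Nat.card X := Nat.card_pos
    omega
  obtain ⟨s, hs⟩ := exists_prime_orderOf_dvd_card' 7 h7
  obtain ⟨P, hP⟩ := SmallSimple.Simple168.exists_sylow_zpowers 7 (SmallSimple.Simple168.card_of_sylow_seven h) (s : G)
    (by rw [← hs]; exact orderOf_coe s)
  have h5 : (zpowers s).index = 2 := by
    have k := (zpowers s).card_mul_index
    rw [Nat.card_zpowers, hs, h4] at k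
    omega
  have h6 := normal_of_index_eq_two h5
  have h8 : X ≤ normalizer ((P : Subgroup G) : Set G) := by
    rw [hP]
    intro x hx
    refine mem_normalizer_fintype fun y hy => ?_
    obtain ⟨j, rfl⟩ := mem_zpowers_iff.1 hy
    obtain ⟨i, hi⟩ := mem_zpowers_iff.1 (h6.conj_mem _ (zpow_mem (mem_zpowers s) j) ⟨x, hx⟩)
    exact mem_zpowers_iff.2 ⟨i, congrArg Subtype.val hi⟩
  have h9 := card_dvd_of_le h8
  rw [h4, SmallSimple.Simple168.card_normalizer_seven h] at h9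
  omega

end Cfsg.Agent.N2.G2.L35

private theorem dce_69d114d03386 : _root_.True := by
  try have : _root_.True := by simp only [_root_.Cfsg.Agent.N2.G2.cm.eq_1]
  exact _root_.True.intro
end

-- part: N2/G2/Loc2
section
prune_inst 0x42034440980020000000512500022045400059000208001d9c00e460a06f3020000090144801c0a104aa280004000000010005040000000000004000000000090aad204b27c0d0c46008f803087590c00000000000000000000000000051004000000000
set_option linter.all false
open scoped Cfsg.Agent.FastGrp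

/-!
# N2, `G₂(q)` and `³D₄(q)`: the `2`-local subgroups, box `Loc2` (helper35)
-/

set_option autoImplicit false
set_option linter.unusedSectionVars false

namespace Cfsg.Agent.N2.G2

open Subgroup Cfsg Cfsg.Agent.FP3
open Cfsg.Agent.SB.Low (EA Nz Cz)

namespace L35

variable {T : Type} [Group T] [Finite T] [IsSimpleGroup T] {p k q : ℕ} {d : T → ℕ} {A : Subgroup T}
  {Γ : Subgroup (MulAut T)}

/-- an invariant abelian subgroup contains a minimal invariant elementary abelian subgroup -/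
theorem ex_loc {B : Subgroup T} (hi : Inv Γ B) (h0 : B ≠ ⊥) (hc : ∀ x ∈ B, ∀ y ∈ B, x * y = y * x) :
    ∃ E r, E ≤ B ∧ Loc Γ E r := by
  obtain ⟨E, ⟨h1, h2, h3⟩, hmin⟩ := WellFounded.has_min (wellFounded_lt (α := Subgroup T))
    {E : Subgroup T | E ≤ B ∧ Inv Γ E ∧ E ≠ ⊥} ⟨B, le_rfl, hi, h0⟩
  have hm : ∀ E' ≤ E, Inv Γ E' → E' = ⊥ ∨ E' = E := fun E' h4 h5 => by
    by_cases h6 : E' = ⊥
    · exact Or.inl h6
    · exact Or.inr (eq_of_le_of_not_lt h4 (hmin E' ⟨h4.trans h1, h5, h6⟩))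
  obtain ⟨r, hr, hd⟩ := Nat.exists_prime_and_dvd (n := Nat.card E) fun k => h3 (card_eq_one.1 k)
  have := Fact.mk hr
  obtain ⟨x, hx⟩ := exists_prime_orderOf_dvd_card' r hd
  let Ω : Subgroup T :=
    { carrier := {y | y ∈ E ∧ y ^ r = 1}
      one_mem' := ⟨one_mem _, one_pow _⟩
      mul_mem' := fun {a b} ha hb => ⟨mul_mem ha.1 hb.1, by
        rw [(show Commute a b from hc a (h1 ha.1) b (h1 hb.1)).mul_pow, ha.2, hb.2, one_mul]⟩
      inv_mem' := fun {a} ha => ⟨inv_mem ha.1, by rw [inv_pow, ha.2, inv_one]⟩ }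
  have h4 : Ω = E := (hm Ω (fun _ h => h.1) fun σ hσ y hy => ⟨h2 σ hσ y hy.1, by rw [← map_pow, hy.2, map_one]⟩).resolve_left
    fun k => by
      have h5 : (x : T) ∈ Ω := ⟨x.2, by rw [← hx, ← coe_pow, pow_orderOf_eq_one, coe_one]⟩
      rw [k, mem_bot] at h5
      rw [show x = 1 from Subtype.ext h5, orderOf_one] at hx
      exact hr.one_lt.ne hx
  exact ⟨E, r, h1, ⟨⟨hr, h3, fun y hy => (h4.ge hy).2, fun a ha b hb => hc a (h1 ha) b (h1 hb)⟩, h2, hm⟩⟩

theorem norm_ab (C : Cx p A Γ) {B : Subgroup T} (hi : Inv Γ B) (h0 : B ≠ ⊥) (hc : ∀ x ∈ B, ∀ y ∈ B, x * y = y * x) :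
    Nz B = A := mi_norm C.mi hi h0 fun k => by
  have : A.Normal := ⟨fun a ha g => by rwa [hc g (k ▸ mem_top g) a (k ▸ mem_top a), mul_inv_cancel_right]⟩
  exact this.eq_bot_or_eq_top.elim C.mi.ne_bot C.mi.ne_top

theorem ea_pg {r : ℕ} {E : Subgroup T} (h : EA r E) : IsPGroup r E :=
  fun x => ⟨1, Subtype.ext (by simpa using h.pow x x.2)⟩

theorem cz_le_nz (E : Subgroup T) : Cz E ≤ Nz E := centralizer_le_normalizer _

theorem card_nz (E : Subgroup T) : Nat.card (Nz E) = Nat.card (Cz E) * Nat.card E.normalizerMonoidHom.range := by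
  rw [← SB.Low.twoA_relIndex, relIndex, ← Nat.card_congr (subgroupOfEquivOfLe (cz_le_nz E)).toEquiv, card_mul_index]

/-- Cauchy's theorem in a subgroup -/
theorem cauchy {H : Subgroup T} {l : ℕ} (hl : l.Prime) (h : l ∣ Nat.card H) : ∃ x ∈ H, orderOf x = l := by
  have := Fact.mk hl
  obtain ⟨x, hx⟩ := exists_prime_orderOf_dvd_card' l h
  exact ⟨x, x.2, by rw [← hx]; exact orderOf_coe x⟩

/-- an element of order `3` which normalises a subgroup of order `8` centralises a non-trivial element -/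
theorem fix_three {F : Subgroup T} (h8 : Nat.card F = 8) {t : T} (ht : t ∈ Nz F) (h3 : orderOf t = 3) :
    ∃ w ∈ F, w ≠ 1 ∧ t * w = w * t := by
  have : Fact (Nat.Prime 3) := ⟨Nat.prime_three⟩
  let φ : MulAut F := F.normalizerMonoidHom ⟨t, ht⟩
  have h1 : φ ^ 3 = 1 := by
    rw [← map_pow, show (⟨t, ht⟩ : Nz F) ^ 3 = 1 from Subtype.ext (by rw [← h3]; exact pow_orderOf_eq_one t), map_one]
  have h2 : IsPGroup 3 (zpowers φ) := by
    rcases (Nat.dvd_prime Nat.prime_three).1 (orderOf_dvd_of_pow_eq_one h1) with k | k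
    · exact IsPGroup.of_card (n := 0) (by rw [Nat.card_zpowers, k]; rfl)
    · exact IsPGroup.of_card (n := 1) (by rw [Nat.card_zpowers, k]; rfl)
  have h4 := h2.card_modEq_card_fixedPoints F
  rw [h8] at h4
  have h5 : Nontrivial (MulAction.fixedPoints (zpowers φ) F) := by
    rw [← Finite.one_lt_card_iff_nontrivial]
    have : 0 < Nat.card (MulAction.fixedPoints (zpowers φ) F) := by
      have : Nonempty (MulAction.fixedPoints (zpowers φ) F) := ⟨⟨1, fun σ => map_one (σ : MulAut F)⟩⟩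
      exact Nat.card_pos
    unfold Nat.ModEq at h4
    omega
  obtain ⟨w, hw⟩ := exists_ne (⟨1, fun σ => map_one (σ : MulAut F)⟩ : MulAction.fixedPoints (zpowers φ) F)
  refine ⟨w.1, w.1.2, fun e => hw (Subtype.ext (Subtype.ext e)), ?_⟩
  have h6 : t * (w.1 : T) * t⁻¹ = w.1 := congrArg Subtype.val (w.2 ⟨φ, mem_zpowers φ⟩)
  exact mul_inv_eq_iff_eq_mul.1 h6

section sheet

variable (h : Sh p k q T d) (hp : p ≠ 2)
include h hp

theorem hk : k = 1 ∨ k = 3 := h.par.imp And.left And.left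

theorem q_odd : Odd q := by
  obtain ⟨f, -, rfl⟩ := h.pw
  exact (h.prime.odd_of_ne_two hp).pow

theorem q_ge : 3 ≤ q := by
  obtain ⟨u, hu⟩ := q_odd h hp
  rcases h.par with k | k <;> omega

theorem cop_two {n j : ℕ} (hn : n ∣ 2 ^ j) : n.Coprime p :=
  Nat.Coprime.coprime_dvd_left hn (((Nat.coprime_primes Nat.prime_two h.prime).2 hp.symm).pow_left j)

/-- the regular elements -/
theorem reg_of {x : T} (hx : (orderOf x).Coprime p) (h1 : ¬ orderOf x ∣ q ^ k - 1) (h2 : ¬ orderOf x ∣ q ^ k + 1) :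
    d x = k + 1 := by
  have hq := q_ge h hp
  have h0 : x ≠ 1 := fun e => h1 (by rw [e, orderOf_one]; exact one_dvd _)
  have a1 : q - 1 ∣ q ^ k - 1 := by simpa using Nat.sub_dvd_pow_sub_pow q 1 k
  have a2 : q + 1 ∣ q ^ k + 1 := by
    have : Odd k := by rcases hk h hp with rfl | rfl <;> decide
    simpa using this.nat_add_dvd_pow_add_pow q 1
  rcases h.cls x hx h0 with e | e | ⟨e, e'⟩ | ⟨-, e⟩
  · exact e
  · obtain ⟨m, hm | hm, -, e'⟩ := h.mild x hx e
    exacts [(h1 (hm ▸ orderOf_dvd_of_pow_eq_one e')).elim, (h2 (hm ▸ orderOf_dvd_of_pow_eq_one e')).elim]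
  · rcases hk h hp with rfl | rfl
    · have k3 := orderOf_dvd_of_pow_eq_one (e' rfl)
      obtain ⟨m, ⟨-, hm⟩ | ⟨-, hm⟩, -⟩ := h.bad1 rfl x hx e
      exacts [(h1 ((k3.trans hm).trans a1)).elim, (h2 ((k3.trans hm).trans a2)).elim]
    · obtain ⟨m, n, z, hb, -, hz, hxz, -⟩ := h.bad3 rfl x hx e
      have k1 : orderOf x ∣ m := hz ▸ orderOf_dvd_of_mem_zpowers hxz
      obtain ⟨s, rfl⟩ : ∃ s, q = s + 1 := ⟨q - 1, by omega⟩
      rcases hb with ⟨hm | hm, -⟩ | ⟨hm, -⟩ | ⟨hm, -⟩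
      · exact (h1 ((hm ▸ k1).trans a1)).elim
      · exact (h2 ((hm ▸ k1).trans a2)).elim
      · exact (h1 ((hm ▸ k1).trans ⟨s, Nat.sub_eq_of_eq_add (by ring)⟩)).elim
      · rw [Nat.sub_eq_of_eq_add (c := s ^ 2 + s) (by ring)] at hm
        exact (h2 ((hm ▸ k1).trans ⟨s + 2, by ring⟩)).elim
  · refine (h1 ((orderOf_dvd_of_pow_eq_one e).trans ?_)).elim
    obtain ⟨u, hu⟩ := (q_odd h hp).pow (n := k)
    exact ⟨u, by omega⟩

theorem reg_le {x : T} (hx : (orderOf x).Coprime p) (h0 : x ≠ 1) (h1 : d x ≤ k + 1) : d x = k + 1 := by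
  rcases h.cls x hx h0 with e | e | ⟨e, -⟩ | ⟨e, -⟩ <;> omega

theorem cn_reg {x : T} (hx : (orderOf x).Coprime p) (h1 : d x = k + 1) : cn x ≤ tau k q := tor_le (h.reg x hx h1).2.2.1

theorem cyc_cop : ((q ^ k - 1) * (q + 1)).Coprime p := by
  obtain ⟨f, hf, e⟩ := h.pw
  have h1 : p ∣ q := e ▸ dvd_pow_self p hf.ne'
  have h2 : p ∣ q ^ k := h1.trans (dvd_pow_self q (by rcases hk h hp with rfl | rfl <;> decide))
  have h3 : 1 ≤ q ^ k := Nat.one_le_pow _ _ (q_odd h hp).pos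
  refine ((h.prime.coprime_iff_not_dvd).2 fun c => ?_).symm
  rcases (h.prime.dvd_mul).1 c with c | c
  · exact h.prime.not_dvd_one ((Nat.dvd_add_right c).1 (by rwa [Nat.sub_add_cancel h3]))
  · exact h.prime.not_dvd_one ((Nat.dvd_add_right h1).1 c)

variable (C : Cx p A Γ)
include C

/-- an invariant involution -/
theorem good_inv {z : T} (hz : orderOf z = 2) (hf : ∀ σ ∈ Γ, σ z = z) : Good A := by
  have hq := q_ge h hp
  have h1 : Nz (zpowers z) = A := norm_ab C (fun σ hσ w hw => by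
      obtain ⟨j, rfl⟩ := mem_zpowers_iff.1 hw
      rw [map_zpow, hf σ hσ]
      exact zpow_mem (mem_zpowers _) j)
    (fun e => by rw [zpowers_eq_bot.1 e, orderOf_one] at hz; exact absurd hz (by decide)) fun a ha b hb => by
      obtain ⟨i, rfl⟩ := mem_zpowers_iff.1 ha
      obtain ⟨j, rfl⟩ := mem_zpowers_iff.1 hb
      exact zpow_mul_comm z i j
  have h2 : A ≤ centralizer {z} := fun a ha =>
    mem_centralizer_singleton_iff.2 (mul_inv_eq_iff_eq_mul.1 (hf _ ((C.mi.conj a).2 ha)))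
  obtain ⟨x, hx⟩ := h.cyc
  have h3 : 3 ≤ q ^ k := hq.trans (Nat.le_self_pow (by rcases hk h hp with rfl | rfl <;> decide) q)
  have h4 : q ^ k + 1 < (q ^ k - 1) * (q + 1) := by
    obtain ⟨s, hs⟩ : ∃ s, q ^ k = s + 1 := ⟨q ^ k - 1, by omega⟩
    rw [hs, Nat.add_sub_cancel]
    nlinarith
  have h5 : 2 ∣ orderOf x := by
    obtain ⟨u, hu⟩ := q_odd h hp
    exact hx ▸ Dvd.dvd.mul_left ⟨u + 1, by omega⟩ _
  obtain ⟨c, hc⟩ := isConj_iff.1 (h.one hp _ z (orderOf_pow_orderOf_div (orderOf_pos x).ne' h5) hz)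
  have h6 : orderOf (c * x * c⁻¹) = (q ^ k - 1) * (q + 1) := by
    rw [← hx]
    exact (MulAut.conj c).orderOf_eq x
  have h7 : c * x * c⁻¹ ∈ A := by
    refine h1 ▸ cz_le_nz _ (mem_centralizer_iff.2 fun w hw => ?_)
    obtain ⟨j, rfl⟩ := mem_zpowers_iff.1 hw
    rw [← hc, ← conj_pow]
    exact ((Commute.refl _).pow_left _).zpow_left j
  have h8 : (orderOf (c * x * c⁻¹)).Coprime p := h6 ▸ cyc_cop h hp
  refine good_of_cn h7 (cn_reg h hp h8 (reg_of h hp h8 (fun e => ?_) fun e => ?_)) ?_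
  · have := Nat.le_of_dvd (by omega) e
    omega
  · have := Nat.le_of_dvd (by omega) e
    omega
  · rw [h.card]
    exact (Nat.mul_le_mul_left _ ((card_le_of_le h2).trans (h.invc hp z hz))).trans (n_inv (hk h hp) hq)

/-- an invariant subgroup of order `2` -/
theorem good_two {W : Subgroup T} (hi : Inv Γ W) (h2 : Nat.card W = 2) : Good A := by
  obtain ⟨z, hz, e⟩ := cauchy Nat.prime_two h2.symm.dvd
  obtain ⟨y, -, hy⟩ := (Nat.card_eq_two_iff' (1 : W)).1 h2
  have h1 : z ≠ 1 := fun k => by rw [k, orderOf_one] at e; exact absurd e (by decide)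
  refine good_inv h hp C e fun σ hσ => ?_
  have a1 := hy ⟨z, hz⟩ fun k => h1 (congrArg Subtype.val k)
  have a2 := hy ⟨σ z, hi σ hσ z hz⟩ fun k => h1 ((MulEquiv.map_eq_one_iff σ).1 (congrArg Subtype.val k))
  exact congrArg Subtype.val (a2.trans a1.symm)

variable {E : Subgroup T} (hE : Loc Γ E 2)
include hE

theorem nz : Nz E = A := norm_ab C hE.inv hE.ne_bot hE.comm

/-- a four-group in `³D₄(q)` -/
theorem good_four3 (h3 : k = 3) (h4 : Nat.card E = 4) : Good A := by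
  subst h3
  have hq := q_ge h hp
  obtain ⟨B, b1, b2, b3, b4, b5, -, -, b6, -⟩ := h.tor 2 E hE.toEA hp.symm h4
  have hBA : B ≤ A := nz h hp C hE ▸ b2.trans (cz_le_nz E)
  obtain ⟨l, hl, l2, ld, l3, l4⟩ := exists_l hq (q_odd h hp) b5 (Dvd.dvd.trans (h4 ▸ by decide) (card_dvd_of_le b1))
  obtain ⟨a, ha, oa⟩ := cauchy (H := E) Nat.prime_two (h4 ▸ by decide)
  obtain ⟨b, hb, ob⟩ := cauchy hl ld
  have hx : a * b ∈ B := mul_mem (b1 ha) hb
  have o1 : orderOf (a * b) = 2 * l := by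
    rw [(show Commute a b from b3 a (b1 ha) b hb).orderOf_mul_eq_mul_orderOf_of_coprime
      (by rw [oa, ob]; exact (Nat.coprime_primes Nat.prime_two hl).2 l2.symm), oa, ob]
  have o2 : (orderOf (a * b)).Coprime p := Nat.Coprime.coprime_dvd_left (orderOf_dvd_natCard B hx) b4
  have o3 : a * b ≠ 1 := fun e => by
    rw [e, orderOf_one] at o1
    omega
  have c1 : cn (a * b) ≤ cm 3 q := by
    rcases h.cls _ o2 o3 with e | e | ⟨e, -⟩ | ⟨-, e⟩
    · exact (cn_reg h hp o2 e).trans (tau_le_cm hq)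
    · obtain ⟨m, hm, e', -⟩ := h.mild _ o2 e
      rw [e', cm]
      exact Nat.mul_le_mul_left _ (by omega)
    · obtain ⟨m, n, z, hb, -, hz, hxz, -⟩ := h.bad3 rfl _ o2 e
      have k1 : 2 * l ∣ m := o1 ▸ hz ▸ orderOf_dvd_of_mem_zpowers hxz
      have k2 : 2 ∣ m := (Dvd.intro _ rfl).trans k1
      have k3 : l ∣ m := (Dvd.intro_left _ rfl).trans k1
      obtain ⟨u, hu⟩ := q_odd h hp
      obtain ⟨v, hv⟩ := (q_odd h hp).pow (n := 2)
      have : q ≤ q ^ 2 := Nat.le_self_pow (by decide) q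
      rcases hb with ⟨hm | hm, -⟩ | ⟨hm, -⟩ | ⟨hm, -⟩
      · exact (l3 (hm ▸ k3)).elim
      · exact (l4 (hm ▸ k3)).elim
      · omega
      · omega
    · have k1 := Nat.le_of_dvd (by decide) (orderOf_dvd_of_pow_eq_one e)
      have := hl.two_le
      omega
  refine good_of_cn (hBA hx) c1 ?_
  rw [h.card]
  refine (Nat.mul_le_mul_left _ ?_).trans (n_cm hq)
  have e1 : B.relIndex A * Nat.card B = Nat.card A := by
    rw [relIndex, ← Nat.card_congr (subgroupOfEquivOfLe hBA).toEquiv, index_mul_card]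
  rw [← e1, ← nz h hp C hE]
  exact Nat.mul_le_mul b6 (tor_le b5)

/-- a four-group in `G₂(3)` with normaliser of order `48` -/
theorem good_48 (h4 : Nat.card E = 4) (h8 : Nat.card (Cz E) ≤ 8) (h48 : Nat.card (Nz E) = 48) : Good A := by
  have hA := nz h hp C hE
  have hEF : E ≤ Cz E := fun a ha => mem_centralizer_iff.2 fun b hb => hE.comm b hb a ha
  have c8 : Nat.card (Cz E) = 8 := by
    have k1 := card_nz E
    have k2 := (card_le_card_group E.normalizerMonoidHom.range).trans (SB.Low.twoA_card_aut_four h4)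
    rw [h48] at k1
    nlinarith
  have hFi : Inv Γ (Cz E) := hE.inv.centralizer
  have i2 : (E.subgroupOf (Cz E)).index = 2 := by
    have k := (E.subgroupOf (Cz E)).index_mul_card
    rw [Nat.card_congr (subgroupOfEquivOfLe hEF).toEquiv, h4, c8] at k
    omega
  have hFc : ∀ a ∈ Cz E, ∀ b ∈ Cz E, a * b = b * a := fun a ha b hb => by
    by_cases k1 : a ∈ E
    · exact mem_centralizer_iff.1 hb a k1
    by_cases k2 : b ∈ E
    · exact (mem_centralizer_iff.1 ha b k2).symm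
    have k3 : (⟨a, ha⟩ : Cz E)⁻¹ * ⟨b, hb⟩ ∈ E.subgroupOf (Cz E) :=
      (mul_mem_iff_of_index_two i2).2 (iff_of_false (fun c => k1 (inv_mem_iff.1 c)) k2)
    have k4 : a⁻¹ * b * a = a * (a⁻¹ * b) := mem_centralizer_iff.1 ha _ k3
    rw [mul_inv_cancel_left, mul_assoc, inv_mul_eq_iff_eq_mul] at k4
    exact k4.symm
  have hFA : Nz (Cz E) = A := norm_ab C hFi (fun e => hE.ne_bot (le_bot_iff.1 (e ▸ hEF))) hFc
  rw [hA] at h48
  obtain ⟨t, ht, o3⟩ := cauchy (H := A) Nat.prime_three (h48 ▸ by decide)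
  obtain ⟨w, hw, w1, hwt⟩ := fix_three c8 (hFA ▸ ht) o3
  let W : Subgroup T := Cz E ⊓ centralizer {g | g ∈ A ∧ orderOf g = 3}
  have hWi : Inv Γ W := fun σ hσ x hx => ⟨hFi σ hσ x hx.1, mem_centralizer_iff.2 fun g hg => by
    obtain ⟨g, rfl⟩ := σ.surjective g
    rw [← map_mul, ← map_mul, mem_centralizer_iff.1 hx.2 g ⟨(C.mi.inv σ hσ g).1 hg.1, by rw [← hg.2, σ.orderOf_eq]⟩]⟩
  have hwW : w ∈ W := by
    refine ⟨hw, mem_centralizer_iff.2 fun g hg => ?_⟩
    have k1 : 8 ∣ Nat.card ↥(centralizer {w} ⊓ A) := c8 ▸ card_dvd_of_le (le_inf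
      (fun a ha => mem_centralizer_singleton_iff.2 (hFc a ha w hw)) (hFA ▸ le_normalizer))
    have k2 : 3 ∣ Nat.card ↥(centralizer {w} ⊓ A) :=
      o3 ▸ orderOf_dvd_natCard _ (⟨mem_centralizer_singleton_iff.2 hwt, ht⟩ : t ∈ centralizer {w} ⊓ A)
    have k3 := ((centralizer {w} ⊓ A).subgroupOf A).index_mul_card
    rw [Nat.card_congr (subgroupOfEquivOfLe inf_le_right).toEquiv, h48] at k3
    obtain ⟨c, hc⟩ := Nat.Coprime.mul_dvd_of_dvd_of_dvd (by decide) k1 k2
    have k4 : ((centralizer {w} ⊓ A).subgroupOf A).index ∣ 2 := ⟨c, by rw [hc] at k3; nlinarith⟩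
    have k5 : (⟨g, hg.1⟩ : A) ^ 2 ∈ (centralizer {w} ⊓ A).subgroupOf A := by
      rcases (Nat.dvd_prime Nat.prime_two).1 k4 with k | k
      · rw [index_eq_one.1 k]
        exact mem_top _
      · exact sq_mem_of_index_two k _
    have k6 : (g ^ 2) ^ 2 ∈ centralizer {w} := pow_mem (show g ^ 2 ∈ centralizer {w} ⊓ A from k5).1 2
    rw [← pow_mul, show 2 * 2 = 3 + 1 from rfl, pow_succ, ← hg.2, pow_orderOf_eq_one, one_mul] at k6
    exact mem_centralizer_singleton_iff.1 k6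
  have hWE : W ⊓ E = ⊥ := (hE.min _ inf_le_right fun σ hσ x hx => ⟨hWi σ hσ x hx.1, hE.inv σ hσ x hx.2⟩).resolve_right
    fun e => by
      have k1 : t ∈ Cz E := mem_centralizer_iff.2 fun a ha =>
        (mem_centralizer_iff.1 (e.ge ha).1.2 t ⟨ht, o3⟩).symm
      have k2 := orderOf_dvd_natCard _ k1
      rw [o3, c8] at k2
      exact absurd k2 (by decide)
  have hwE : w ∉ E := fun c => w1 (mem_bot.1 (hWE ▸ ⟨hwW, c⟩))
  refine good_inv h hp C (z := w) ?_ fun σ hσ => ?_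
  · have : Fact (Nat.Prime 2) := ⟨Nat.prime_two⟩
    refine orderOf_eq_prime (mem_bot.1 (hWE ▸ ⟨pow_mem hwW 2, ?_⟩)) w1
    exact sq_mem_of_index_two i2 (⟨w, hw⟩ : Cz E)
  · have k1 := hWi σ hσ w hwW
    have k2 : (⟨w, hw⟩ : Cz E)⁻¹ * ⟨σ w, k1.1⟩ ∈ E.subgroupOf (Cz E) :=
      (mul_mem_iff_of_index_two i2).2 (iff_of_false (fun c => hwE (inv_mem_iff.1 c))
        fun c => hwE ((hE.inv.iff hσ w).1 c))
    have k3 : w⁻¹ * σ w ∈ W ⊓ E := ⟨W.mul_mem (W.inv_mem hwW) k1, k2⟩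
    rw [hWE, mem_bot, inv_mul_eq_one] at k3
    exact k3.symm

/-- a four-group in `G₂(q)` whose centraliser is a `2`-group -/
theorem good_four1' (h1 : k = 1) (h4 : Nat.card E = 4) (h2 : ∀ l : ℕ, l.Prime → l ∣ Nat.card (Cz E) → l = 2) :
    Good A := by
  subst h1
  have hq := q_ge h hp
  obtain ⟨n, B, hn, -, b2, -, b4, b5, b6⟩ := h.nV rfl hp E hE.toEA h4
  have n2 : 2 ≤ n := by omega
  have e1 : n = 2 ^ n.primeFactorsList.length := Nat.eq_prime_pow_of_unique_prime_dvd (by omega) fun {l} hl hd =>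
    h2 l hl ((hd.trans (b4 ▸ dvd_pow_self n two_ne_zero)).trans (card_dvd_of_le b2))
  generalize n.primeFactorsList.length = j at e1
  rcases j with _ | _ | j
  · omega
  · have e2 : n = 2 := e1
    rw [e2] at b5 b6
    exact good_48 h hp C hE h4 b5 b6
  obtain ⟨u, hu, e2⟩ := two_part hq hn e1
  rw [nz h hp C hE] at b6
  have i2 : ¬ 2 ∣ A.index := odd_index (q_odd h hp) (by omega) hu e2 (by rw [← b6, A.index_mul_card, h.card])
  obtain ⟨x, hx⟩ := h.cyc
  rw [pow_one, e2] at hx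
  have o1 : orderOf (x ^ u) = 2 ^ (j + 3) := by
    rw [orderOf_pow_of_dvd hu.pos.ne' (hx ▸ Dvd.intro_left _ rfl), hx, Nat.mul_div_cancel _ hu.pos, e1]
    ring
  have : Fact (Nat.Prime 2) := ⟨Nat.prime_two⟩
  obtain ⟨g, hg⟩ := H164.exists_conj_mem_of_isPGroup Nat.prime_two i2
    (IsPGroup.of_card (G := zpowers (x ^ u)) (n := j + 3) (by rw [Nat.card_zpowers, o1]))
  have o2 : orderOf (g⁻¹ * x ^ u * g) = 2 ^ (j + 3) := by
    rw [← o1]
    simpa using (MulAut.conj g⁻¹).orderOf_eq (x ^ u)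
  have o3 : (orderOf (g⁻¹ * x ^ u * g)).Coprime p := cop_two h hp o2.dvd
  have o4 : orderOf (g⁻¹ * x ^ u * g) = 2 * n := by
    rw [o2, e1]
    ring
  have n4 : 4 ≤ n := by
    have : 0 < 2 ^ j := by positivity
    rw [e1, pow_succ, pow_succ]
    omega
  refine good_of_cn (hg _ (mem_zpowers _)) (cn_reg h hp o3 (reg_of h hp o3 (fun e => ?_) fun e => ?_)) ?_
  · rw [pow_one] at e
    have := Nat.le_of_dvd (by omega) e
    omega
  · rw [pow_one] at e
    have := Nat.le_of_dvd (by omega) e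
    omega
  · rw [h.card, b6]
    exact (Nat.mul_le_mul_left _ (Nat.mul_le_mul_left _ (Nat.pow_le_pow_left (by omega) 2))).trans (n_four hq)

/-- a four-group in `G₂(q)` -/
theorem good_four1 (hO : BoxLocO) (h1 : k = 1) (h4 : Nat.card E = 4) : Good A := by
  obtain ⟨B, -, -, b3, -, -, -, -, -, -, b4⟩ := h.tor 2 E hE.toEA hp.symm h4
  have hB : ∀ g ∈ Cz E, Odd (orderOf g) → g ∈ B := fun g hg ho => by
    obtain ⟨m, hm⟩ := exists_pow_eq_self_of_coprime (x := g) (n := 4)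
      (Nat.Coprime.pow_left 2 (Nat.coprime_two_left.2 ho))
    exact hm ▸ pow_mem (b4 g hg) m
  let O : Subgroup T :=
    { carrier := {g | g ∈ Cz E ∧ Odd (orderOf g)}
      one_mem' := ⟨one_mem _, by rw [orderOf_one]; exact odd_one⟩
      mul_mem' := fun {a b} ha hb => ⟨mul_mem ha.1 hb.1, (ha.2.mul hb.2).of_dvd_nat
        (show Commute a b from b3 a (hB a ha.1 ha.2) b (hB b hb.1 hb.2)).orderOf_mul_dvd_mul_orderOf⟩
      inv_mem' := fun {a} ha => ⟨inv_mem ha.1, by rw [orderOf_inv]; exact ha.2⟩ }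
  by_cases h0 : O = ⊥
  · refine good_four1' h hp C hE h1 h4 fun l hl hd => ?_
    by_contra l2
    obtain ⟨x, hx, ox⟩ := cauchy hl hd
    have k1 : x ∈ O := ⟨hx, ox ▸ hl.odd_of_ne_two l2⟩
    rw [h0, mem_bot] at k1
    rw [k1, orderOf_one] at ox
    exact hl.one_lt.ne ox
  · obtain ⟨E', r, e1, e2⟩ := ex_loc (Γ := Γ) (B := O)
      (fun σ hσ x hx => ⟨hE.inv.centralizer σ hσ x hx.1, by rw [σ.orderOf_eq]; exact hx.2⟩) h0
      fun a ha b hb => b3 a (hB a ha.1 ha.2) b (hB b hb.1 hb.2)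
    refine hO p k q T d A Γ h C E' r e2 ?_
    rintro rfl
    refine e2.ne_bot (eq_bot_iff.2 fun x hx => mem_bot.2 (orderOf_eq_one_iff.1 ?_))
    exact (Nat.coprime_two_right.2 (e1 hx).2).eq_one_of_dvd (orderOf_dvd_of_pow_eq_one (e2.pow x hx))

/-- the normaliser of an eight-group -/
theorem card_eight (h8 : Nat.card E = 8) : Nat.card A = 1344 := by
  have hA := nz h hp C hE
  have : Fact (Nat.Prime 2) := ⟨Nat.prime_two⟩
  have hC : Cz E = E := le_antisymm (h.eight hp E hE.toEA h8) fun a ha => mem_centralizer_iff.2 fun b hb => hE.comm b hb a ha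
  have c1 := card_nz E
  rw [hC, h8] at c1
  have c2 : 16 ∣ Nat.card (Nz E) := by
    obtain ⟨K, hK, hle⟩ := Sylow.exists_subgroup_card_pow_succ (p := 2) (n := 3) (H := E)
      (h.card ▸ sixteen (q_odd h hp)) h8
    have k1 := (E.subgroupOf K).index_mul_card
    rw [Nat.card_congr (subgroupOfEquivOfLe hle).toEquiv, h8, hK] at k1
    have k2 := normal_of_index_eq_two (H := E.subgroupOf K) (by omega)
    exact (show 16 = Nat.card K from hK.symm) ▸ card_dvd_of_le ((normal_subgroupOf_iff_le_normalizer hle).1 k2)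
  have c3 : 2 ∣ Nat.card E.normalizerMonoidHom.range := by omega
  have hsq : ∀ v : E, v * v = 1 := fun v => Subtype.ext ((pow_two (v : T)).symm.trans (hE.pow v v.2))
  have c4 := StdL2.G23Aut.card_aut hsq h8
  have := StdL2.G23Aut.simple_aut hsq h8
  let X : Subgroup (MulAut E) :=
    { carrier := {φ | ∃ σ ∈ Γ, ∀ x : E, (φ x : T) = σ x}
      one_mem' := ⟨1, one_mem _, fun _ => rfl⟩
      mul_mem' := fun {a b} ⟨σ, hσ, e⟩ ⟨τ, hτ, e'⟩ => ⟨σ * τ, mul_mem hσ hτ, fun x => by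
        rw [MulAut.mul_apply, MulAut.mul_apply, e, e']⟩
      inv_mem' := fun {a} ⟨σ, hσ, e⟩ => ⟨σ⁻¹, inv_mem hσ, fun x => by
        rw [MulAut.inv_apply, MulAut.inv_apply, eq_comm, MulEquiv.symm_apply_eq, ← e, MulEquiv.apply_symm_apply]⟩ }
  have hX : E.normalizerMonoidHom.range ≤ X := by
    rintro _ ⟨a, rfl⟩
    exact ⟨MulAut.conj (a : T), (C.mi.conj a).2 (hA ▸ a.2), fun _ => rfl⟩
  have c7 : 7 ∣ Nat.card X := by
    let _ : CommGroup E := { (inferInstance : Group E) with mul_comm := fun a b => Subtype.ext (hE.comm a a.2 b b.2) }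
    refine seven_dvd (fun v => by rw [pow_two]; exact hsq v) h8 X fun W hW => ?_
    refine (hE.min (W.map E.subtype) (map_subtype_le W) ?_).imp (fun e => ?_) fun e => ?_
    · rintro σ hσ _ ⟨w, hw, rfl⟩
      let φ : MulAut E :=
        { toFun := fun a => ⟨σ a, hE.inv σ hσ a a.2⟩
          invFun := fun a => ⟨σ.symm a, (hE.inv.iff hσ _).1 (by simp)⟩
          left_inv := fun a => Subtype.ext (by simp)
          right_inv := fun a => Subtype.ext (by simp)
          map_mul' := fun a b => Subtype.ext (by simp) }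
      exact ⟨φ w, hW φ ⟨σ, hσ, fun _ => rfl⟩ w hw, rfl⟩
    · exact (map_eq_bot_iff_of_injective W E.subtype_injective).1 e
    · exact eq_top_iff.2 fun x _ => (mem_map_iff_mem E.subtype_injective).1 (e.ge x.2)
  have hT := top_of_fourteen c4 X (c3.trans (card_dvd_of_le hX)) c7
  have hN : E.normalizerMonoidHom.range.Normal := ⟨by
    rintro _ ⟨a, rfl⟩ φ
    obtain ⟨σ, hσ, e⟩ : φ ∈ X := hT ▸ mem_top φ
    refine ⟨⟨σ a, hE.inv.normalizer σ hσ a a.2⟩, MulEquiv.ext fun x => Subtype.ext ?_⟩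
    obtain ⟨x, rfl⟩ := φ.surjective x
    rw [MulAut.mul_apply, MulAut.mul_apply, MulAut.inv_apply, MulEquiv.symm_apply_apply, e]
    change σ a * (φ x : T) * (σ a)⁻¹ = σ ((a : T) * x * (a : T)⁻¹)
    rw [e, map_mul, map_mul, map_inv]⟩
  rcases hN.eq_bot_or_eq_top with e | e
  · rw [e, card_bot] at c3
    exact absurd c3 (by decide)
  · rw [e, card_top, c4] at c1
    exact hA ▸ c1

/-- an eight-group -/
theorem good_eight (h8 : Nat.card E = 8) : Good A := by
  have hA := nz h hp C hE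
  have hc := card_eight h hp C hE h8
  have hq := q_ge h hp
  have key : ∀ x ∈ A, (orderOf x).Coprime p → x ≠ 1 → d x ≤ k + 1 → (q = 3 → 7 ∣ orderOf x) → Good A :=
    fun x hx o1 o2 o3 o4 => by
      have r1 := reg_le h hp o1 o2 o3
      have r2 := cn_reg h hp o1 r1
      rcases hk h hp with rfl | rfl
      · rcases hq.eq_or_lt with e | e
        · subst e
          have r3 := (h.reg x o1 r1).2.2.1
          have r4 : 7 ∣ cn x := (o4 rfl).trans (orderOf_dvd_natCard _ (mem_centralizer_singleton_iff.2 rfl))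
          refine good_of_cn hx (c := 7) ?_ (by rw [h.card, hc, ord_one]; norm_num)
          rcases r3 with ⟨-, r3⟩ | ⟨r3, -⟩
          · omega
          · exact absurd r3 (by decide)
        · exact good_of_cn hx r2 (by rw [h.card, hc]; exact n_eight1 e)
      · exact good_of_cn hx r2 (by rw [h.card, hc]; exact n_eight3 hq)
  by_cases h7 : p = 7
  · obtain ⟨t, ht, o3⟩ := cauchy (H := A) Nat.prime_three (hc ▸ by decide)
    obtain ⟨a, ha, a1, hta⟩ := fix_three h8 (hA ▸ ht) o3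
    have : Fact (Nat.Prime 2) := ⟨Nat.prime_two⟩
    have oa : orderOf a = 2 := orderOf_eq_prime (hE.pow a ha) a1
    have o6 : orderOf (t * a) = 6 := by
      rw [(show Commute t a from hta).orderOf_mul_eq_mul_orderOf_of_coprime (by rw [o3, oa]; decide), o3, oa]
    refine key _ (mul_mem ht (hA ▸ le_normalizer ha)) (by rw [o6, h7]; decide) (fun e => ?_)
      (h.perm6 hp E hE.toEA h8 t (hA ▸ ht) o3 a ha a1 hta) fun e => ?_
    · rw [e, orderOf_one] at o6
      exact absurd o6 (by decide)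
    · obtain ⟨f, hf, e'⟩ := h.pw
      have : p ∣ q := e' ▸ dvd_pow_self p hf.ne'
      rw [h7, e] at this
      exact absurd this (by decide)
  · have p7 : Nat.Prime 7 := by norm_num
    obtain ⟨g, hg, o7⟩ := cauchy (H := A) p7 (hc ▸ by decide)
    refine key g hg (o7 ▸ (Nat.coprime_primes p7 h.prime).2 (Ne.symm h7)) (fun e => ?_)
      (h.perm7 hp E hE.toEA h8 g (hA ▸ hg) o7) fun _ => o7.symm.dvd
    rw [e, orderOf_one] at o7
    exact absurd o7 (by decide)

end sheet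

end L35

/-- **[Loc2]** -/
theorem boxLoc2 : BoxLoc2 := by
  intro hO p k q T _ _ _ d A Γ h C E hE
  have hp : p ≠ 2 := by
    rintro rfl
    exact hE.ne_bot (C.noP E hE.inv (L35.ea_pg hE.toEA))
  have : Fact (Nat.Prime 2) := ⟨Nat.prime_two⟩
  obtain ⟨j, hj⟩ := IsPGroup.iff_card.1 (L35.ea_pg hE.toEA)
  have h1 : Nat.card E ≤ 2 ^ 3 := h.rk2 hp E ⟨⟨fun a b => Subtype.ext (hE.comm a a.2 b b.2)⟩⟩ hE.pow
  have h2 : j ≤ 3 := (Nat.pow_le_pow_iff_right (by decide)).1 (hj ▸ h1)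
  interval_cases j
  · exact absurd (card_eq_one.1 hj) hE.ne_bot
  · exact L35.good_two h hp C hE.inv hj
  · rcases L35.hk h hp with e | e
    exacts [L35.good_four1 h hp C hE hO e hj, L35.good_four3 h hp C hE e hj]
  · exact L35.good_eight h hp C hE hj

end Cfsg.Agent.N2.G2
end
end
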